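import Mathlib
import Cfsg.Agent.Lib.Burnside.Paqb

/-!
# Base size three for solvable linear groups: general lemmas

Solvable subgroups of nonsolvable groups with few cosets, five inequivalent regular points for a
commuting action, and colourings.
-/

set_option autoImplicit false
set_option linter.style.haveILetI false

namespace Cfsg.Agent.Lib.BaseThree

open scoped Pointwise

/-- In a solvable group, a set all of whose elements are commutators of two elements of the set
is trivial. -/
theorem eq_one_of_commutator_closed {H : Type*} [Group H] [Group.IsSolvable H] {S : Set H}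
    (hS : ∀ s ∈ S, ∃ x ∈ S, ∃ y ∈ S, s = x * y * x⁻¹ * y⁻¹) {s : H} (hs : s ∈ S) : s = 1 := by
  have h : ∀ n, ∀ t ∈ S, t ∈ derivedSeries H n := by
    intro n
    induction n with
    | zero => intro t _; simp
    | succ n ih =>
      intro t ht
      obtain ⟨x, hx, y, hy, rfl⟩ := hS t ht
      rw [derivedSeries_succ]
      exact Subgroup.commutator_mem_commutator (ih x hx) (ih y hy)
  obtain ⟨n, hn⟩ := (Group.isSolvable_def H).1 inferInstance
  have := h n s hs
  rwa [hn, Subgroup.mem_bot] at this

theorem isSolvable_perm_of_card_le {α : Type*} [Finite α] (h : Nat.card α ≤ 4) :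
    Group.IsSolvable (Equiv.Perm α) := by
  have hc : Nat.card (Equiv.Perm α) = (Nat.card α).factorial := Nat.card_perm
  obtain ⟨a, b, hab⟩ : ∃ a b, (Nat.card α).factorial = 2 ^ a * 3 ^ b := by
    interval_cases Nat.card α
    · exact ⟨0, 0, rfl⟩
    · exact ⟨0, 0, rfl⟩
    · exact ⟨1, 0, rfl⟩
    · exact ⟨1, 1, rfl⟩
    · exact ⟨3, 1, rfl⟩
  exact Lib.Burnside.isSolvable_of_card_eq_prime_pow_mul Nat.prime_two Nat.prime_three (hc.trans hab)

/-- A solvable subgroup of a nonsolvable finite group has index at least five. -/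
theorem five_le_index {Γ : Type*} [Group Γ] [Finite Γ] (hΓ : ¬ Group.IsSolvable Γ) (S : Subgroup Γ)
    (hS : Group.IsSolvable S) : 5 ≤ S.index := by
  by_contra h
  refine hΓ ?_
  haveI : Finite (Γ ⧸ S) := inferInstance
  haveI := isSolvable_perm_of_card_le (α := Γ ⧸ S) (by
    rw [← Subgroup.index_eq_card]; omega)
  let f := MulAction.toPermHom Γ (Γ ⧸ S)
  haveI : Group.IsSolvable f.ker := by
    have hle : f.ker ≤ S := by
      rw [← Subgroup.normalCore_eq_ker]; exact Subgroup.normalCore_le S
    exact Group.isSolvable_of_isSolvable_injective (Subgroup.inclusion_injective hle)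
  exact Group.isSolvable_of_ker_le_range f.ker.subtype f (by simp)

/-- If `Γ` commutes with the action of a solvable group `G` on `X` and the stabiliser of the
regular point `x` in `Γ` is solvable, the `Γ`-translates of `x` meet five orbits of `G`. -/
theorem exists_five_points {Γ G X : Type*} [Group Γ] [Finite Γ] [Group G] [Group.IsSolvable G]
    [MulAction Γ X] [MulAction G X] [SMulCommClass Γ G X] (hΓ : ¬ Group.IsSolvable Γ) (x : X)
    (hreg : ∀ g : G, g • x = x → ∀ y : X, g • y = y)
    (hstab : Group.IsSolvable (MulAction.stabilizer Γ x)) :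
    ∃ γ : Fin 5 → Γ, ∀ i j, ∀ g : G, g • γ i • x = γ j • x → i = j := by
  classical
  haveI : SMulCommClass G Γ X := SMulCommClass.symm Γ G X
  -- the setwise stabiliser of the orbit
  let S : Subgroup Γ :=
    { carrier := {γ | ∃ g : G, g • x = γ • x}
      one_mem' := ⟨1, by simp⟩
      mul_mem' := by
        rintro a b ⟨g, hg⟩ ⟨k, hk⟩
        exact ⟨k * g, by rw [mul_smul, hg, smul_comm, hk, ← mul_smul]⟩
      inv_mem' := by
        rintro a ⟨g, hg⟩
        exact ⟨g⁻¹, by rw [inv_smul_eq_iff, smul_comm, hg, inv_smul_smul]⟩ }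
  haveI := hstab
  -- map to the permutations induced by `G`
  let P := (MulAction.toPermHom G X).range
  haveI : Group.IsSolvable P :=
    Group.isSolvable_of_surjective (MulAction.toPermHom G X).rangeRestrict_surjective
  have key : ∀ g k : G, g • x = k • x → MulAction.toPermHom G X g = MulAction.toPermHom G X k := by
    intro g k h
    ext y
    have := hreg (k⁻¹ * g) (by rw [mul_smul, h, inv_smul_smul]) y
    rwa [mul_smul, inv_smul_eq_iff] at this
  have hinv : ∀ γ : S, (γ : Γ)⁻¹ ∈ S := fun γ => S.inv_mem γ.2
  let φ : S →* P :=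
    MonoidHom.mk' (fun γ => ⟨_, Classical.choose (hinv γ), rfl⟩) (by
      intro a b
      ext1
      simp only [Subgroup.coe_mul]
      rw [← map_mul]
      apply key
      rw [Classical.choose_spec (hinv (a * b)), mul_smul, Classical.choose_spec (hinv b),
        smul_comm, Classical.choose_spec (hinv a), ← mul_smul, Subgroup.coe_mul, mul_inv_rev])
  haveI : Group.IsSolvable φ.ker := by
    have hle : φ.ker.map S.subtype ≤ MulAction.stabilizer Γ x := by
      rintro _ ⟨a, ha, rfl⟩
      have h1 : MulAction.toPermHom G X (Classical.choose (hinv a)) = 1 :=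
        congrArg Subtype.val (MonoidHom.mem_ker.1 ha)
      have h2 := Classical.choose_spec (hinv a)
      have h3 : Classical.choose (hinv a) • x = x := by
        have := congrArg (fun σ : Equiv.Perm X => σ x) h1
        simpa using this
      rw [h3, eq_inv_smul_iff] at h2
      exact h2
    haveI : Group.IsSolvable (φ.ker.map S.subtype) :=
      Group.isSolvable_of_isSolvable_injective (Subgroup.inclusion_injective hle)
    exact Group.isSolvable_of_isSolvable_injective
      (f := (φ.ker.equivMapOfInjective S.subtype S.subtype_injective).toMonoidHom)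
      (MulEquiv.injective _)
  have hS : Group.IsSolvable S := Group.isSolvable_of_ker_le_range φ.ker.subtype φ (by simp)
  have h5 := five_le_index hΓ S hS
  obtain ⟨e⟩ : Nonempty (Fin 5 ↪ Γ ⧸ S) := by
    haveI := Fintype.ofFinite (Γ ⧸ S)
    refine Function.Embedding.nonempty_of_card_le ?_
    rw [Fintype.card_fin, ← Nat.card_eq_fintype_card, ← Subgroup.index_eq_card]
    exact h5
  refine ⟨fun i => (e i).out, fun i j g h => ?_⟩
  apply e.injective
  rw [← QuotientGroup.out_eq' (e i), ← QuotientGroup.out_eq' (e j), QuotientGroup.eq]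
  refine ⟨g, ?_⟩
  rw [mul_smul, ← h, smul_comm, inv_smul_smul]

/-- The stabiliser of a point in the symmetric group on five letters is solvable. -/
theorem isSolvable_stabilizer_five (a : Fin 5) :
    Group.IsSolvable (MulAction.stabilizer (Equiv.Perm (Fin 5)) a) := by
  haveI := isSolvable_perm_of_card_le (α := {x : Fin 5 // x ≠ a}) (by
    rw [Nat.card_eq_fintype_card]; simp)
  have hmem : ∀ σ : MulAction.stabilizer (Equiv.Perm (Fin 5)) a, ∀ x,
      (σ : Equiv.Perm (Fin 5)) x ≠ a ↔ x ≠ a := by
    intro σ x
    have h : (σ : Equiv.Perm (Fin 5)) a = a := σ.2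
    refine not_congr ⟨fun h1 => (σ : Equiv.Perm (Fin 5)).injective (h1.trans h.symm), ?_⟩
    rintro rfl
    exact h
  let f : MulAction.stabilizer (Equiv.Perm (Fin 5)) a →* Equiv.Perm {x : Fin 5 // x ≠ a} :=
    MonoidHom.mk' (fun σ => (σ : Equiv.Perm (Fin 5)).subtypePerm (hmem σ)) (by
      intro s t; ext x; rfl)
  refine Group.isSolvable_of_isSolvable_injective (f := f) ?_
  intro s t h
  ext1
  ext x
  by_cases hx : x = a
  · subst hx
    rw [show (s : Equiv.Perm (Fin 5)) x = x from s.2, show (t : Equiv.Perm (Fin 5)) x = x from t.2]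
  · have := congrArg (fun σ : Equiv.Perm {x : Fin 5 // x ≠ a} => σ ⟨x, hx⟩) h
    simpa [f, Subtype.ext_iff, Fin.ext_iff] using this

/-- A colouring with five colours that only the trivially acting elements preserve. -/
def Colourable (G Ω : Type*) [Group G] [MulAction G Ω] : Prop :=
  ∃ c : Ω → Fin 5, ∀ g : G, (∀ x, c (g • x) = c x) → ∀ x : Ω, g • x = x

/-- Five pairwise inequivalent distinguishing colourings from one. -/
theorem Colourable.five {G Ω : Type*} [Group G] [Group.IsSolvable G] [MulAction G Ω] [Nonempty Ω]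
    (h : Colourable G Ω) : ∃ c : Fin 5 → Ω → Fin 5, ∀ i j, ∀ g : G,
      (∀ x, c i (g • x) = c j x) → i = j ∧ ∀ x : Ω, g • x = x := by
  obtain ⟨c, hc⟩ := h
  -- `Perm (Fin 5)` acts on colourings, commuting with `G`
  let P := (MulAction.toPermHom G Ω).range
  haveI : Group.IsSolvable P :=
    Group.isSolvable_of_surjective (MulAction.toPermHom G Ω).rangeRestrict_surjective
  letI : MulAction P (Ω → Fin 5) :=
    { smul := fun p f => fun x => f ((p⁻¹ : P).1 x)
      one_smul := fun f => rfl
      mul_smul := fun p q f => by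
        funext x
        show f _ = f _
        rw [mul_inv_rev]
        rfl }
  haveI : SMulCommClass (Equiv.Perm (Fin 5)) P (Ω → Fin 5) := ⟨fun _ _ _ => rfl⟩
  obtain ⟨x0⟩ := ‹Nonempty Ω›
  haveI : Group.IsSolvable (MulAction.stabilizer (Equiv.Perm (Fin 5)) c) := by
    haveI := isSolvable_stabilizer_five (c x0)
    have hle : MulAction.stabilizer (Equiv.Perm (Fin 5)) c ≤
        MulAction.stabilizer (Equiv.Perm (Fin 5)) (c x0) := fun σ hσ => congrFun hσ x0
    exact Group.isSolvable_of_isSolvable_injective (Subgroup.inclusion_injective hle)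
  obtain ⟨γ, hγ⟩ := exists_five_points (G := P) Equiv.Perm.not_isSolvable_fin_5 c (by
    rintro ⟨_, g, rfl⟩ h f
    have h' : ∀ x, c (g⁻¹ • x) = c x := fun x => congrFun h x
    funext x
    exact congrArg f (hc g⁻¹ h' x)) inferInstance
  refine ⟨fun i => γ i • c, fun i j g h => ?_⟩
  have hij : i = j := by
    refine hγ i j ⟨_, g⁻¹, rfl⟩ ?_
    funext x
    show (γ i • c) (((MulAction.toPermHom G Ω g⁻¹)⁻¹ : Equiv.Perm Ω) x) = (γ j • c) x
    rw [← map_inv, inv_inv]
    exact h x
  subst hij
  refine ⟨rfl, hc g fun x => (γ i).injective ?_⟩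
  exact h x

/-- Regular triples: three points fixed only by the trivially acting elements. -/
def HasTriple (G V : Type*) [Group G] [MulAction G V] : Prop :=
  ∃ v : Fin 3 → V, ∀ g : G, (∀ i, g • v i = v i) → ∀ x : V, g • x = x

end Cfsg.Agent.Lib.BaseThree
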