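import Cfsg.Agent.Lib.BaseThree.Basic

/-!
# Abelian normal subgroups of primitive irreducible linear groups span fields
-/

set_option autoImplicit false
set_option linter.style.haveILetI false

namespace Cfsg.Agent.Lib.BaseThree

variable {V : Type} [AddCommGroup V]

instance finite_endHom [Finite V] : Finite (AddMonoid.End V) :=
  Finite.of_injective (fun f : AddMonoid.End V => (f : V → V)) DFunLike.coe_injective

instance finite_endUnits [Finite V] : Finite (AddMonoid.End V)ˣ :=
  Finite.of_injective (Units.val : (AddMonoid.End V)ˣ → AddMonoid.End V) fun _ _ h => Units.ext h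

theorem units_smul_def (g : (AddMonoid.End V)ˣ) (v : V) : g • v = (g : AddMonoid.End V) v := rfl

/-- `G` leaves no subgroup other than `⊥` and `⊤` invariant. -/
def Irred (G : Subgroup (AddMonoid.End V)ˣ) : Prop :=
  ∀ U : AddSubgroup V, (∀ g ∈ G, ∀ u ∈ U, g • u ∈ U) → U = ⊥ ∨ U = ⊤

/-- A decomposition of `V` permuted by `G`, as orthogonal idempotents. -/
structure IsDecomp (G : Subgroup (AddMonoid.End V)ˣ) (E : Finset (AddMonoid.End V)) : Prop where
  two_le : 2 ≤ E.card
  idem : ∀ e ∈ E, e * e = e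
  ne_zero : ∀ e ∈ E, e ≠ 0
  orth : ∀ e ∈ E, ∀ f ∈ E, e ≠ f → e * f = 0
  sum_eq : ∑ e ∈ E, e = 1
  conj_mem : ∀ g ∈ G, ∀ e ∈ E, (g : AddMonoid.End V) * e * (g⁻¹ : (AddMonoid.End V)ˣ) ∈ E

/-- `G` permutes no proper decomposition of `V`. -/
def Primitive (G : Subgroup (AddMonoid.End V)ˣ) : Prop := ∀ E, ¬ IsDecomp G E

theorem IsDecomp.mono {G G' : Subgroup (AddMonoid.End V)ˣ} {E : Finset (AddMonoid.End V)}
    (h : IsDecomp G' E) (hle : G ≤ G') : IsDecomp G E :=
  ⟨h.two_le, h.idem, h.ne_zero, h.orth, h.sum_eq, fun g hg => h.conj_mem g (hle hg)⟩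

theorem Irred.mono {G G' : Subgroup (AddMonoid.End V)ˣ} (h : Irred G) (hle : G ≤ G') : Irred G' :=
  fun U hU => h U fun g hg => hU g (hle hg)

theorem inv_mul_apply (g : (AddMonoid.End V)ˣ) (v : V) :
    (g⁻¹ : (AddMonoid.End V)ˣ) • g • v = v := inv_smul_smul g v

variable {G : Subgroup (AddMonoid.End V)ˣ} {N : Subgroup (AddMonoid.End V)ˣ}

/-- The ring spanned by a subgroup of units. -/
def spanRing (N : Subgroup (AddMonoid.End V)ˣ) : Subring (AddMonoid.End V) :=
  Subring.closure (Units.val '' (N : Set (AddMonoid.End V)ˣ))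

theorem mem_spanRing {n : (AddMonoid.End V)ˣ} (hn : n ∈ N) :
    (n : AddMonoid.End V) ∈ spanRing N := Subring.subset_closure ⟨n, hn, rfl⟩

theorem spanRing_commute (hN : ∀ a ∈ N, ∀ b ∈ N, a * b = b * a) {r s : AddMonoid.End V}
    (hr : r ∈ spanRing N) (hs : s ∈ spanRing N) : r * s = s * r := by
  have h1 : ∀ a ∈ N, (a : AddMonoid.End V) * s = s * a := by
    intro a ha
    have hle : spanRing N ≤ Subring.centralizer {(a : AddMonoid.End V)} := by
      refine Subring.closure_le.2 ?_
      rintro _ ⟨b, hb, rfl⟩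
      rw [SetLike.mem_coe, Subring.mem_centralizer_iff]
      rintro _ rfl
      exact congrArg Units.val (hN a ha b hb)
    exact Subring.mem_centralizer_iff.1 (hle hs) _ rfl
  have hle : spanRing N ≤ Subring.centralizer {s} := by
    refine Subring.closure_le.2 ?_
    rintro _ ⟨a, ha, rfl⟩
    rw [SetLike.mem_coe, Subring.mem_centralizer_iff]
    rintro _ rfl
    exact (h1 a ha).symm
  exact (Subring.mem_centralizer_iff.1 (hle hr) _ rfl).symm

/-- Conjugation by a unit. -/
def conjEnd (g : (AddMonoid.End V)ˣ) : AddMonoid.End V →+* AddMonoid.End V where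
  toFun r := (g : AddMonoid.End V) * r * (g⁻¹ : (AddMonoid.End V)ˣ)
  map_one' := by simp
  map_mul' r s := by simp [mul_assoc]
  map_zero' := by simp
  map_add' r s := by simp [mul_add, add_mul]

theorem conjEnd_apply_smul (g : (AddMonoid.End V)ˣ) (r : AddMonoid.End V) (v : V) :
    conjEnd g r (g • v) = g • r v := by
  show (g : AddMonoid.End V) (r ((g⁻¹ : (AddMonoid.End V)ˣ) • g • v)) = _
  rw [inv_smul_smul]
  rfl

theorem conjEnd_injective (g : (AddMonoid.End V)ˣ) : Function.Injective (conjEnd g) := by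
  intro r s h
  refine DFunLike.ext _ _ fun v => MulAction.injective g ?_
  show g • r v = g • s v
  rw [← conjEnd_apply_smul, ← conjEnd_apply_smul, h]

theorem conjEnd_mem_spanRing {g : (AddMonoid.End V)ˣ} (hg : ∀ n ∈ N, g * n * g⁻¹ ∈ N)
    {r : AddMonoid.End V} (hr : r ∈ spanRing N) : conjEnd g r ∈ spanRing N := by
  have hle : spanRing N ≤ (spanRing N).comap (conjEnd g) := by
    refine Subring.closure_le.2 ?_
    rintro _ ⟨n, hn, rfl⟩
    show conjEnd g (n : AddMonoid.End V) ∈ spanRing N
    exact mem_spanRing (hg n hn)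
  exact hle hr

theorem exists_common_kernel [Nontrivial V] (S : Finset (AddMonoid.End V))
    (hn : ∀ r ∈ S, IsNilpotent r) (hc : ∀ r ∈ S, ∀ s ∈ S, r * s = s * r) :
    ∃ v : V, v ≠ 0 ∧ ∀ r ∈ S, r v = 0 := by
  classical
  induction S using Finset.induction with
  | empty =>
    obtain ⟨v, hv⟩ := exists_ne (0 : V)
    exact ⟨v, hv, by simp⟩
  | insert r S hrS ih =>
    obtain ⟨v, hv, hvS⟩ := ih (fun s hs => hn s (Finset.mem_insert_of_mem hs))
      (fun a ha b hb => hc a (Finset.mem_insert_of_mem ha) b (Finset.mem_insert_of_mem hb))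
    obtain ⟨k, hk⟩ := hn r (Finset.mem_insert_self _ _)
    have hex : ∃ n, (r ^ n) v = 0 := ⟨k, by rw [hk]; rfl⟩
    obtain ⟨n, hn'⟩ : ∃ n, Nat.find hex = n + 1 := by
      refine ⟨Nat.find hex - 1, ?_⟩
      have : Nat.find hex ≠ 0 := fun h0 => by
        have h1 := Nat.find_spec hex
        rw [h0, pow_zero] at h1
        exact hv h1
      omega
    refine ⟨(r ^ n) v, Nat.find_min hex (by omega), fun s hs => ?_⟩
    rcases Finset.mem_insert.1 hs with rfl | hs
    · have := Nat.find_spec hex
      rwa [hn', pow_succ'] at this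
    · have hcomm : Commute s r :=
        hc s (Finset.mem_insert_of_mem hs) r (Finset.mem_insert_self _ _)
      show (s * r ^ n) v = 0
      rw [(hcomm.pow_right n).eq]
      show (r ^ n) (s v) = 0
      rw [hvS s hs, map_zero]

theorem exists_idempotent_pow {M : Type*} [Monoid M] [Finite M] (r : M) :
    ∃ n, 0 < n ∧ r ^ n * r ^ n = r ^ n := by
  obtain ⟨i, j, hne, hij⟩ := Finite.exists_ne_map_eq_of_infinite (fun k : ℕ => r ^ (k + 1))
  wlog hlt : i < j generalizing i j
  · exact this j i hne.symm hij.symm (lt_of_le_of_ne (Nat.le_of_not_lt hlt) hne.symm)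
  obtain ⟨d, rfl⟩ : ∃ d, j = i + d := ⟨j - i, by omega⟩
  have hstep : ∀ m, i + 1 ≤ m → r ^ (m + d) = r ^ m := by
    intro m hm
    obtain ⟨c, rfl⟩ : ∃ c, m = c + (i + 1) := ⟨m - (i + 1), by omega⟩
    rw [show c + (i + 1) + d = c + ((i + d) + 1) by omega, pow_add]
    rw [show r ^ ((i + d) + 1) = r ^ (i + 1) from hij.symm, ← pow_add]
  have hmul : ∀ t m, i + 1 ≤ m → r ^ (m + t * d) = r ^ m := by
    intro t
    induction t with
    | zero => simp
    | succ t ih =>
      intro m hm
      rw [show m + (t + 1) * d = (m + t * d) + d by ring, hstep _ (by omega), ih m hm]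
  have hd : 0 < d := by omega
  have hle : i + 1 ≤ (i + 1) * d := Nat.le_mul_of_pos_right _ hd
  exact ⟨(i + 1) * d, by omega, by rw [← pow_add, hmul (i + 1) _ hle]⟩

variable [Finite V]

/-- In a primitive irreducible group, the ring spanned by an abelian normal subgroup is a field. -/
theorem isUnit_of_mem_spanRing [Nontrivial V] (hirr : Irred G) (hprim : Primitive G)
    (hN : ∀ a ∈ N, ∀ b ∈ N, a * b = b * a) (hGN : ∀ g ∈ G, ∀ n ∈ N, g * n * g⁻¹ ∈ N)
    {r : AddMonoid.End V} (hr : r ∈ spanRing N) (hr0 : r ≠ 0) :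
    ∃ s ∈ spanRing N, r * s = 1 ∧ s * r = 1 := by
  classical
  cases nonempty_fintype (AddMonoid.End V)
  have hcomm : ∀ r ∈ spanRing N, ∀ s ∈ spanRing N, r * s = s * r :=
    fun r hr s hs => spanRing_commute hN hr hs
  have hconj : ∀ g ∈ G, ∀ r ∈ spanRing N, conjEnd g r ∈ spanRing N :=
    fun g hg r hr => conjEnd_mem_spanRing (hGN g hg) hr
  -- no nilpotent elements
  have hred : ∀ t ∈ spanRing N, IsNilpotent t → t = 0 := by
    let J : Finset (AddMonoid.End V) :=
      Finset.univ.filter fun t => t ∈ spanRing N ∧ IsNilpotent t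
    have hJ : ∀ t, t ∈ J ↔ t ∈ spanRing N ∧ IsNilpotent t := by simp [J]
    let U : AddSubgroup V :=
      { carrier := {v | ∀ t ∈ J, t v = 0}
        zero_mem' := fun t _ => map_zero t
        add_mem' := fun {a b} ha hb t ht => by rw [map_add, ha t ht, hb t ht, add_zero]
        neg_mem' := fun {a} ha t ht => by rw [map_neg, ha t ht, neg_zero] }
    have hU : ∀ g ∈ G, ∀ u ∈ U, g • u ∈ U := by
      intro g hg u hu t ht
      obtain ⟨ht1, ht2⟩ := (hJ t).1 ht
      have ht' : conjEnd g⁻¹ t ∈ J := (hJ _).2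
        ⟨hconj _ (G.inv_mem hg) t ht1, ht2.map (conjEnd g⁻¹)⟩
      have h := conjEnd_apply_smul g⁻¹ t (g • u)
      rw [inv_smul_smul, hu _ ht'] at h
      exact (smul_eq_zero_iff_eq g⁻¹).1 h.symm
    intro t ht htn
    obtain ⟨v, hv, hvJ⟩ := exists_common_kernel J (fun s hs => ((hJ s).1 hs).2)
      (fun a ha b hb => hcomm a ((hJ a).1 ha).1 b ((hJ b).1 hb).1)
    rcases hirr U hU with h | h
    · have : v ∈ U := hvJ
      rw [h, AddSubgroup.mem_bot] at this
      exact absurd this hv
    · refine DFunLike.ext _ _ fun w => ?_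
      have : w ∈ U := h ▸ AddSubgroup.mem_top w
      exact this t ((hJ t).2 ⟨ht, htn⟩)
  -- idempotents
  have hidem : ∀ e ∈ spanRing N, e * e = e → e = 0 ∨ e = 1 := by
    by_contra hcon
    push Not at hcon
    obtain ⟨e', he', he'e, he'0, he'1⟩ := hcon
    let I : Finset (AddMonoid.End V) :=
      Finset.univ.filter fun e => e ∈ spanRing N ∧ e * e = e ∧ e ≠ 0
    have hI : ∀ e, e ∈ I ↔ e ∈ spanRing N ∧ e * e = e ∧ e ≠ 0 := by simp [I]
    let sz : AddMonoid.End V → ℕ := fun e => Nat.card (Set.range (fun v => e v))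
    obtain ⟨e, heI, hmin⟩ := I.exists_min_image sz ⟨e', (hI e').2 ⟨he', he'e, he'0⟩⟩
    obtain ⟨he, hee, he0⟩ := (hI e).1 heI
    -- `e` has minimal range
    have hsz : ∀ g ∈ G, sz (conjEnd g e) = sz e := by
      intro g _
      have himg : Set.range (fun v => conjEnd g e v) = (fun v : V => g • v) '' Set.range (fun v => e v) := by
        ext x
        constructor
        · rintro ⟨v, rfl⟩
          refine ⟨e (g⁻¹ • v), ⟨_, rfl⟩, ?_⟩
          show g • e (g⁻¹ • v) = conjEnd g e v
          rw [← conjEnd_apply_smul, smul_inv_smul]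
        · rintro ⟨_, ⟨v, rfl⟩, rfl⟩
          exact ⟨g • v, conjEnd_apply_smul g e v⟩
      show Nat.card (Set.range fun v => conjEnd g e v) = _
      rw [himg, Nat.card_image_of_injective (MulAction.injective g)]
    let E : Finset (AddMonoid.End V) := Finset.univ.filter fun f => ∃ g ∈ G, f = conjEnd g e
    have hE : ∀ f, f ∈ E ↔ ∃ g ∈ G, f = conjEnd g e := by simp [E]
    have hEI : ∀ f ∈ E, f ∈ spanRing N ∧ f * f = f ∧ f ≠ 0 ∧ sz f = sz e := by
      intro f hf
      obtain ⟨g, hg, rfl⟩ := (hE f).1 hf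
      refine ⟨hconj g hg e he, by rw [← map_mul, hee], fun h => he0 ?_, hsz g hg⟩
      exact conjEnd_injective g (h.trans (map_zero _).symm)
    have horth : ∀ f ∈ E, ∀ f' ∈ E, f ≠ f' → f * f' = 0 := by
      intro f hf f' hf' hne
      obtain ⟨h1, h2, -, h3⟩ := hEI f hf
      obtain ⟨h1', h2', -, h3'⟩ := hEI f' hf'
      by_contra h0
      have hc : f * f' = f' * f := hcomm f h1 f' h1'
      have hid : f * f' * (f * f') = f * f' := by
        calc f * f' * (f * f') = f * (f' * f) * f' := by simp only [mul_assoc]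
          _ = f * f * (f' * f') := by rw [← hc]; simp only [mul_assoc]
          _ = f * f' := by rw [h2, h2']
      have hm := hmin _ ((hI _).2 ⟨mul_mem h1 h1', hid, h0⟩)
      have key : ∀ a b : AddMonoid.End V, a * a = a → b * b = b → a * b = b * a →
          sz a = sz e → sz e ≤ sz (a * b) → a * b = a := by
        intro a b ha hb hab hsa hle
        have hsub : Set.range (fun v => (a * b) v) ⊆ Set.range (fun v => a v) := by
          rintro _ ⟨v, rfl⟩
          exact ⟨b v, rfl⟩
        have heq : Set.range (fun v => (a * b) v) = Set.range (fun v => a v) :=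
          Set.Finite.eq_of_subset_of_card_le (Set.toFinite _) hsub (le_of_eq_of_le hsa hle)
        refine DFunLike.ext _ _ fun v => ?_
        obtain ⟨w, hw⟩ : a v ∈ Set.range (fun v => (a * b) v) := heq ▸ ⟨v, rfl⟩
        have hw' : (a * b) w = a v := hw
        have h1 : a * b * (a * b) = a * b := by
          calc a * b * (a * b) = a * (b * a) * b := by simp only [mul_assoc]
            _ = a * a * (b * b) := by rw [← hab]; simp only [mul_assoc]
            _ = a * b := by rw [ha, hb]
        have h2 : (a * b) (a v) = a v := by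
          rw [← hw']
          exact DFunLike.congr_fun h1 w
        calc (a * b) v = (a * b * a) v := by rw [mul_assoc, ← hab, ← mul_assoc, ha]
          _ = a v := h2
      exact hne (((key f f' h2 h2' hc h3 hm).symm.trans hc).trans
        (key f' f h2' h2 hc.symm h3' (hc ▸ hm)))
    have hEmem : ∀ g ∈ G, ∀ f ∈ E, conjEnd g f ∈ E := by
      intro g hg f hf
      obtain ⟨k, hk, rfl⟩ := (hE f).1 hf
      refine (hE _).2 ⟨g * k, G.mul_mem hg hk, ?_⟩
      show (g : AddMonoid.End V) * ((k : AddMonoid.End V) * e * _) * _ = _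
      simp [conjEnd, mul_assoc]
    have heE : e ∈ E := (hE e).2 ⟨1, G.one_mem, by simp [conjEnd]⟩
    -- the sum is the identity
    have hsum : ∑ f ∈ E, f = 1 := by
      have hs : ∀ g ∈ G, conjEnd g (∑ f ∈ E, f) = ∑ f ∈ E, f := by
        intro g hg
        rw [map_sum]
        refine Finset.sum_nbij (fun f => conjEnd g f) (hEmem g hg)
          (fun a _ b _ h => conjEnd_injective g h) ?_ (fun a _ => rfl)
        intro f hf
        refine ⟨conjEnd g⁻¹ f, hEmem _ (G.inv_mem hg) f hf, ?_⟩
        simp [conjEnd, mul_assoc]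
      have hss : (∑ f ∈ E, f) * (∑ f ∈ E, f) = ∑ f ∈ E, f := by
        rw [Finset.sum_mul]
        refine Finset.sum_congr rfl fun f hf => ?_
        rw [Finset.mul_sum, Finset.sum_eq_single f (fun f' hf' h => horth f hf f' hf' h.symm)
          (fun h => absurd hf h), (hEI f hf).2.1]
      let U : AddSubgroup V :=
        { carrier := {v | (∑ f ∈ E, f) v = v}
          zero_mem' := map_zero _
          add_mem' := fun {a b} (ha : (∑ f ∈ E, f) a = a) (hb : (∑ f ∈ E, f) b = b) => by
            show (∑ f ∈ E, f) (a + b) = a + b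
            rw [map_add, ha, hb]
          neg_mem' := fun {a} (ha : (∑ f ∈ E, f) a = a) => by
            show (∑ f ∈ E, f) (-a) = -a
            rw [map_neg, ha] }
      rcases hirr U (fun g hg u (hu : (∑ f ∈ E, f) u = u) => by
        show (∑ f ∈ E, f) (g • u) = g • u
        have h := conjEnd_apply_smul g (∑ f ∈ E, f) u
        rwa [hs g hg, hu] at h) with h | h
      · exfalso
        refine he0 (DFunLike.ext _ _ fun v => ?_)
        have : e v ∈ U := by
          show (∑ f ∈ E, f) (e v) = e v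
          have h1 : (∑ f ∈ E, f) * e = e := by
            rw [Finset.sum_mul, Finset.sum_eq_single e (fun f hf h => horth f hf e heE h)
              (fun h => absurd heE h), hee]
          exact DFunLike.congr_fun h1 v
        rwa [h, AddSubgroup.mem_bot] at this
      · exact DFunLike.ext _ _ fun v => (h ▸ AddSubgroup.mem_top v : v ∈ U)
    refine hprim E ⟨?_, fun f hf => (hEI f hf).2.1, fun f hf => (hEI f hf).2.2.1, horth, hsum,
      hEmem⟩
    by_contra hlt
    have hEe : E = {e} := by
      refine Finset.eq_singleton_iff_unique_mem.2 ⟨heE, fun f hf => ?_⟩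
      exact Finset.card_le_one.1 (by omega) f hf e heE
    rw [hEe, Finset.sum_singleton] at hsum
    -- `e = 1` forces every nonzero idempotent to be one
    have h1 := hmin e' ((hI e').2 ⟨he', he'e, he'0⟩)
    subst hsum
    have hall : Set.range (fun v => e' v) = Set.univ :=
      Set.Finite.eq_of_subset_of_card_le (Set.toFinite _) (Set.subset_univ _) (le_trans (by
        show Nat.card (Set.univ : Set V) ≤ sz 1
        exact le_of_eq (congrArg (fun s : Set V => Nat.card s)
          (Set.ext fun x => ⟨fun _ => ⟨x, rfl⟩, fun _ => trivial⟩))) h1)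
    refine he'1 (DFunLike.ext _ _ fun v => ?_)
    obtain ⟨w, hw⟩ : v ∈ Set.range (fun v => e' v) := hall ▸ Set.mem_univ v
    have hw' : e' w = v := hw
    rw [← hw']
    exact DFunLike.congr_fun he'e w
  obtain ⟨n, hn0, hn⟩ := exists_idempotent_pow r
  have hne : r ^ n ≠ 0 := fun h => hr0 (hred r hr ⟨n, h⟩)
  have h1 : r ^ n = 1 := (hidem _ (pow_mem hr n) hn).resolve_left hne
  obtain ⟨m, rfl⟩ : ∃ m, n = m + 1 := ⟨n - 1, by omega⟩
  exact ⟨r ^ m, pow_mem hr m, by rw [← pow_succ', h1], by rw [← pow_succ, h1]⟩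

end Cfsg.Agent.Lib.BaseThree
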