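import Cfsg.Agent.Lib.BaseThree.Basic

/-!
# Five inequivalent regular triples from one
-/

set_option autoImplicit false
set_option linter.style.haveILetI false

namespace Cfsg.Agent.Lib.BaseThree

open Matrix

theorem not_isSolvable_gl_three (p : ℕ) [Fact p.Prime] :
    ¬ Group.IsSolvable (Matrix (Fin 3) (Fin 3) (ZMod p))ˣ := by
  intro h
  let x : ∀ i j : Fin 3, i ≠ j → (Matrix (Fin 3) (Fin 3) (ZMod p))ˣ := fun i j hij =>
    ⟨1 + single i j 1, 1 - single i j 1,
      by simp [add_mul, mul_sub, single_mul_single_of_ne, hij.symm],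
      by simp [sub_mul, mul_add, single_mul_single_of_ne, hij.symm]⟩
  let S : Set (Matrix (Fin 3) (Fin 3) (ZMod p))ˣ := {u | ∃ i j, ∃ hij : i ≠ j, u = x i j hij}
  have hS : ∀ s ∈ S, ∃ a ∈ S, ∃ b ∈ S, s = a * b * a⁻¹ * b⁻¹ := by
    rintro s ⟨i, j, hij, rfl⟩
    obtain ⟨k, hik, hjk⟩ : ∃ k : Fin 3, i ≠ k ∧ j ≠ k :=
      (by decide : ∀ i j : Fin 3, ∃ k, i ≠ k ∧ j ≠ k) i j
    refine ⟨x i k hik, ⟨i, k, hik, rfl⟩, x k j hjk.symm, ⟨k, j, hjk.symm, rfl⟩, Units.ext ?_⟩
    show (1 + single i j 1 : Matrix (Fin 3) (Fin 3) (ZMod p)) =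
      (1 + single i k 1) * (1 + single k j 1) * (1 - single i k 1) * (1 - single k j 1)
    simp only [add_mul, mul_add, sub_mul, mul_sub, one_mul, mul_one, Matrix.mul_assoc]
    simp [single_mul_single_of_ne, hij.symm, hik.symm, hjk]
    try abel
  have h1 := eq_one_of_commutator_closed hS
    (⟨0, 1, by decide, rfl⟩ : x 0 1 (by decide) ∈ S)
  have h2 := congrArg (fun u : (Matrix (Fin 3) (Fin 3) (ZMod p))ˣ => (u : Matrix (Fin 3) (Fin 3) (ZMod p)) 0 1) h1
  simp [x] at h2

variable {p : ℕ} [Fact p.Prime] {W : Type*} [AddCommGroup W] [Module (ZMod p) W] [Finite W]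
  {G : Type*} [Group G] [DistribMulAction G W]

omit [Finite W] in
theorem smul_zmod_smul (g : G) (c : ZMod p) (w : W) : g • (c • w) = c • (g • w) :=
  ZMod.map_smul (DistribSMul.toAddMonoidHom W g) c w

theorem smul_eq_of_mem_span (g : G) {S : Set W} (h : ∀ s ∈ S, g • s = s) {x : W}
    (hx : x ∈ Submodule.span (ZMod p) S) : g • x = x := by
  refine Submodule.span_induction (p := fun y _ => g • y = y) h (smul_zero g) ?_ ?_ hx
  · intro a b _ _ ha hb; rw [smul_add, ha, hb]
  · intro c a _ ha; rw [smul_zmod_smul, ha]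

omit [Finite W] in
theorem exists_indep_cover (v : Fin 3 → W) (hd : 3 ≤ Module.finrank (ZMod p) W) :
    ∃ u : Fin 3 → W, LinearIndependent (ZMod p) u ∧
      ∀ l, v l ∈ Submodule.span (ZMod p) (Set.range u) := by
  have h : ∀ k ≤ 3, ∃ u : Fin k → W, LinearIndependent (ZMod p) u ∧
      ∀ l : Fin 3, (l : ℕ) < k → v l ∈ Submodule.span (ZMod p) (Set.range u) := by
    intro k
    induction k with
    | zero => exact fun _ => ⟨Fin.elim0, linearIndependent_empty_type, by simp⟩
    | succ k ih =>
      intro hk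
      obtain ⟨u, hu, huv⟩ := ih (by omega)
      obtain ⟨y, hy, hyv⟩ : ∃ y, y ∉ Submodule.span (ZMod p) (Set.range u) ∧
          v ⟨k, by omega⟩ ∈ Submodule.span (ZMod p) (Set.range u) ⊔ Submodule.span (ZMod p) {y} := by
        by_cases hv : v ⟨k, by omega⟩ ∈ Submodule.span (ZMod p) (Set.range u)
        · have hne : Submodule.span (ZMod p) (Set.range u) ≠ ⊤ := by
            intro htop
            have h1 := finrank_span_eq_card hu
            rw [htop, finrank_top, Fintype.card_fin] at h1
            omega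
          obtain ⟨y, -, hy⟩ := SetLike.exists_of_lt hne.lt_top
          exact ⟨y, hy, Submodule.mem_sup_left hv⟩
        · exact ⟨_, hv, Submodule.mem_sup_right (Submodule.mem_span_singleton_self _)⟩
      refine ⟨Fin.snoc u y, linearIndependent_finSnoc.2 ⟨hu, hy⟩, fun l hl => ?_⟩
      rw [Fin.range_snoc, Set.insert_eq, Submodule.span_union, sup_comm]
      rcases Nat.lt_or_ge (l : ℕ) k with hlk | hlk
      · exact Submodule.mem_sup_left (huv l hlk)
      · rw [show l = ⟨k, by omega⟩ from Fin.ext (show (l : ℕ) = k by omega)]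
        exact hyv
  obtain ⟨u, hu, huv⟩ := h 3 le_rfl
  exact ⟨u, hu, fun l => huv l l.2⟩

/-- Coefficients of five triples in a space of dimension at most two. -/
def coeffTwo (p : ℕ) : Fin 5 → Fin 3 → ZMod p × ZMod p :=
  ![![(1, 0), (0, 1), (0, 0)], ![(1, 0), (0, 0), (0, 1)], ![(0, 0), (1, 0), (0, 1)],
    ![(1, 0), (0, 1), (1, 0)], ![(1, 0), (1, 0), (0, 1)]]

/-- Coefficients of five triples in a space of dimension one. -/
def coeffOne : Fin 5 → Fin 3 → Bool :=
  ![![true, false, false], ![false, true, false], ![false, false, true],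
    ![true, true, false], ![true, false, true]]

theorem coeffOne_inj : ∀ i j, (∀ l, coeffOne i l = coeffOne j l) → i = j := by decide

omit [Module (ZMod p) W] in
/-- A solvable group with a regular triple on a nonzero space has five pairwise inequivalent
regular triples. -/
theorem exists_five_triples (p : ℕ) [Fact p.Prime] [Module (ZMod p) W] [Nontrivial W]
    [Group.IsSolvable G] (h : HasTriple G W) :
    ∃ t : Fin 5 → Fin 3 → W, ∀ i j, ∀ g : G,
      (∀ l, g • t i l = t j l) → i = j ∧ ∀ x : W, g • x = x := by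
  obtain ⟨v, hv⟩ := h
  have hspan : ∀ (u : Fin 3 → W), (∀ l, v l ∈ Submodule.span (ZMod p) (Set.range u)) →
      ∀ g : G, (∀ l, g • u l = u l) → ∀ x : W, g • x = x := fun u hu g hg => hv g fun l =>
    smul_eq_of_mem_span g (by rintro _ ⟨m, rfl⟩; exact hg m) (hu l)
  have hpos : 0 < Module.finrank (ZMod p) W := Module.finrank_pos
  rcases Nat.lt_or_ge (Module.finrank (ZMod p) W) 3 with hd | hd
  · interval_cases hd' : Module.finrank (ZMod p) W
    · let b := Module.finBasisOfFinrankEq (ZMod p) W hd'
      have hb : b 0 ≠ 0 := b.ne_zero 0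
      let t : Fin 5 → Fin 3 → W := fun i l => if coeffOne i l then b 0 else 0
      have hsp : Submodule.span (ZMod p) (Set.range b) = ⊤ := b.span_eq
      refine ⟨t, fun i j g hg => ?_⟩
      have hij : i = j := coeffOne_inj i j fun l => by
        have := hg l
        simp only [t] at this
        cases h1 : coeffOne i l <;> cases h2 : coeffOne j l <;> simp [h1, h2] at this ⊢
        · exact hb this.symm
        · exact hb (smul_eq_zero_iff_eq g |>.1 this)
      subst hij
      refine ⟨rfl, fun x => smul_eq_of_mem_span g ?_ (hsp.symm ▸ Submodule.mem_top : x ∈ Submodule.span (ZMod p) (Set.range b))⟩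
      rintro _ ⟨m, rfl⟩
      obtain ⟨l, hl⟩ : ∃ l, coeffOne i l = true :=
        (by decide : ∀ i, ∃ l, coeffOne i l = true) i
      have := hg l
      simp only [t, hl, if_true] at this
      rwa [Subsingleton.elim m 0]
    · let b := Module.finBasisOfFinrankEq (ZMod p) W hd'
      let φ : ZMod p × ZMod p → W := fun c => c.1 • b 0 + c.2 • b 1
      have hφ : Function.Injective φ := by
        intro c d hcd
        have h0 := congrArg (fun w => b.repr w 0) hcd
        have h1 := congrArg (fun w => b.repr w 1) hcd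
        simp [φ] at h0 h1
        exact Prod.ext h0 h1
      refine ⟨fun i l => φ (coeffTwo p i l), fun i j g hg => ?_⟩
      simp only at hg
      have hzero : ∀ l, φ (coeffTwo p i l) = 0 ↔ φ (coeffTwo p j l) = 0 := fun l => by
        rw [← hg l, smul_eq_zero_iff_eq g]
      have heq : ∀ l m, φ (coeffTwo p i l) = φ (coeffTwo p i m) ↔
          φ (coeffTwo p j l) = φ (coeffTwo p j m) := fun l m => by
        rw [← hg l, ← hg m, smul_left_cancel_iff]
      have hij : i = j := by
        have h10 : ((1 : ZMod p), (0 : ZMod p)) ≠ 0 := by simp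
        have h01 : ((0 : ZMod p), (1 : ZMod p)) ≠ 0 := by simp
        have hne : ((1 : ZMod p), (0 : ZMod p)) ≠ (0, 1) := by simp
        have hφ0 : φ 0 = 0 := by simp [φ]
        simp only [← hφ0, hφ.eq_iff] at hzero heq
        have z0 := hzero 0
        have z1 := hzero 1
        have z2 := hzero 2
        have e01 := heq 0 1
        have e02 := heq 0 2
        fin_cases i <;> fin_cases j <;> first
          | rfl
          | (exfalso; simp [coeffTwo] at z0 z1 z2 e01 e02)
      subst hij
      refine ⟨rfl, fun x => ?_⟩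
      have hb : g • b 0 = b 0 ∧ g • b 1 = b 1 := by
        obtain ⟨l, m, hl, hm⟩ : ∃ l m, coeffTwo p i l = (1, 0) ∧ coeffTwo p i m = (0, 1) := by
          fin_cases i
          exacts [⟨0, 1, rfl, rfl⟩, ⟨0, 2, rfl, rfl⟩, ⟨1, 2, rfl, rfl⟩, ⟨0, 1, rfl, rfl⟩,
            ⟨0, 2, rfl, rfl⟩]
        have h1 := hg l
        have h2 := hg m
        simp only [hl, hm, φ, one_smul, zero_smul, add_zero, zero_add] at h1 h2
        exact ⟨h1, h2⟩
      refine smul_eq_of_mem_span g (S := Set.range b) ?_ (by rw [b.span_eq]; exact Submodule.mem_top)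
      rintro _ ⟨k, rfl⟩
      fin_cases k
      exacts [hb.1, hb.2]
  · obtain ⟨u, hu, huv⟩ := exists_indep_cover v hd
    letI : MulAction (Matrix (Fin 3) (Fin 3) (ZMod p))ˣ (Fin 3 → W) :=
      { smul := fun M t l => ∑ k, (M : Matrix (Fin 3) (Fin 3) (ZMod p)) l k • t k
        one_smul := fun t => by
          funext l
          show ∑ k, (1 : Matrix (Fin 3) (Fin 3) (ZMod p)) l k • t k = t l
          simp [Matrix.one_apply]
        mul_smul := fun M N t => by
          funext l
          show ∑ k, _ • t k = ∑ k, _ • ∑ m, _ • t m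
          simp only [Units.val_mul, Matrix.mul_apply, Finset.sum_smul, Finset.smul_sum, mul_smul]
          rw [Finset.sum_comm] }
    haveI : SMulCommClass (Matrix (Fin 3) (Fin 3) (ZMod p))ˣ G (Fin 3 → W) := ⟨fun M g t => by
      funext l
      show ∑ k, _ • g • t k = g • ∑ k, _ • t k
      rw [Finset.smul_sum]
      exact Finset.sum_congr rfl fun k _ => (smul_zmod_smul g _ _).symm⟩
    haveI : Group.IsSolvable (MulAction.stabilizer (Matrix (Fin 3) (Fin 3) (ZMod p))ˣ u) := by
      have hbot : MulAction.stabilizer (Matrix (Fin 3) (Fin 3) (ZMod p))ˣ u = ⊥ := by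
        refine (Subgroup.eq_bot_iff_forall _).2 fun M hM => Units.ext (Matrix.ext fun l k => ?_)
        have h1 : ∑ k, (M : Matrix (Fin 3) (Fin 3) (ZMod p)) l k • u k = u l := congrFun hM l
        have h2 : ∑ k, ((M : Matrix (Fin 3) (Fin 3) (ZMod p)) l k -
            (1 : Matrix (Fin 3) (Fin 3) (ZMod p)) l k) • u k = 0 := by
          simp [sub_smul, Finset.sum_sub_distrib, h1, Matrix.one_apply]
        exact sub_eq_zero.1 (Fintype.linearIndependent_iff.1 hu _ h2 k)
      rw [hbot]
      exact Group.isSolvable_of_comm fun a b => Subsingleton.elim _ _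
    obtain ⟨γ, hγ⟩ := exists_five_points (G := G) (not_isSolvable_gl_three p) u
      (fun g hg y => funext fun l => hspan u huv g (fun m => congrFun hg m) (y l)) inferInstance
    refine ⟨fun i => γ i • u, fun i j g hg => ?_⟩
    have hij : i = j := hγ i j g (funext hg)
    subst hij
    refine ⟨rfl, hspan u huv g fun m => ?_⟩
    have h1 : g • γ i • u = γ i • u := funext hg
    rw [← smul_comm (γ i) g u] at h1
    exact congrFun (smul_left_cancel (γ i) h1) m

end Cfsg.Agent.Lib.BaseThree
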