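import Cfsg.Agent.Lib.BaseThree.Field

/-!
# The nilpotent normal subgroup of class two in a primitive solvable linear group

`Z` is the multiplicative group of the field `K`; `F` is maximal normal with commutators in `Z`,
squarefree exponent modulo `Z`, and centralising `Z`. It is split into `A`, `B`, `R`.
-/

set_option autoImplicit false
set_option linter.style.haveILetI false
set_option linter.unusedSectionVars false

namespace Cfsg.Agent.Lib.BaseThree

open scoped commutatorElement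

variable {V : Type} [AddCommGroup V] [Finite V]
  {G Z : Subgroup (AddMonoid.End V)ˣ} {K : Subring (AddMonoid.End V)}

/-- A maximal abelian normal subgroup which is the multiplicative group of a field `K`. -/
structure FieldSetup (G Z : Subgroup (AddMonoid.End V)ˣ) (K : Subring (AddMonoid.End V)) :
    Prop where
  le : Z ≤ G
  norm : ∀ g ∈ G, ∀ z ∈ Z, g * z * g⁻¹ ∈ Z
  comm : ∀ a ∈ Z, ∀ b ∈ Z, a * b = b * a
  max : ∀ M : Subgroup (AddMonoid.End V)ˣ, M ≤ G → Z ≤ M → (∀ g ∈ G, ∀ m ∈ M, g * m * g⁻¹ ∈ M) →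
    (∀ a ∈ M, ∀ b ∈ M, a * b = b * a) → M = Z
  mem_iff : ∀ r, r ∈ K ↔ r = 0 ∨ ∃ z ∈ Z, (z : AddMonoid.End V) = r

namespace FieldSetup

theorem coe_mem (hS : FieldSetup G Z K) {z : (AddMonoid.End V)ˣ} (hz : z ∈ Z) :
    (z : AddMonoid.End V) ∈ K := (hS.mem_iff _).2 (Or.inr ⟨z, hz, rfl⟩)

theorem mul_comm_mem (hS : FieldSetup G Z K) {r s : AddMonoid.End V} (hr : r ∈ K) (hs : s ∈ K) :
    r * s = s * r := by
  rcases (hS.mem_iff r).1 hr with rfl | ⟨a, ha, rfl⟩
  · simp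
  rcases (hS.mem_iff s).1 hs with rfl | ⟨b, hb, rfl⟩
  · simp
  exact congrArg Units.val (hS.comm a ha b hb)

theorem isField [Nontrivial V] (hS : FieldSetup G Z K) : IsField K where
  exists_pair_ne := by
    refine ⟨0, 1, fun h => ?_⟩
    obtain ⟨v, hv⟩ := exists_ne (0 : V)
    exact hv (DFunLike.congr_fun (congrArg Subtype.val h).symm v)
  mul_comm a b := Subtype.ext (hS.mul_comm_mem a.2 b.2)
  mul_inv_cancel {a} ha := by
    rcases (hS.mem_iff a.1).1 a.2 with h | ⟨z, hz, hza⟩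
    · exact absurd (Subtype.ext h) ha
    · exact ⟨⟨_, hS.coe_mem (Z.inv_mem hz)⟩, Subtype.ext (by
        show a.1 * _ = 1
        rw [← hza]
        exact z.mul_inv)⟩

/-- `Z` as a subset of `K`. -/
def toK (hS : FieldSetup G Z K) : Z →* K where
  toFun z := ⟨(z.1 : AddMonoid.End V), hS.coe_mem z.2⟩
  map_one' := rfl
  map_mul' _ _ := rfl

theorem toK_injective (hS : FieldSetup G Z K) : Function.Injective hS.toK :=
  fun _ _ h => Subtype.ext (Units.ext (congrArg Subtype.val h))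

theorem eq_one_of_fix [Nontrivial V] (hS : FieldSetup G Z K) {z : (AddMonoid.End V)ˣ} (hz : z ∈ Z)
    {v : V} (hv : v ≠ 0) (h : z • v = v) : z = 1 := by
  rcases (hS.mem_iff ((z : AddMonoid.End V) - 1)).1 (K.sub_mem (hS.coe_mem hz) K.one_mem) with
    h0 | ⟨w, -, hw⟩
  · exact Units.ext (sub_eq_zero.1 h0)
  · exfalso
    have h1 : w • v = 0 := by
      show (w : AddMonoid.End V) v = 0
      rw [hw]
      show (z : AddMonoid.End V) v - v = 0
      rw [← units_smul_def, h, sub_self]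
    exact hv ((smul_eq_zero_iff_eq w).1 h1)

theorem isCyclic [Nontrivial V] (hS : FieldSetup G Z K) : IsCyclic Z := by
  letI := hS.isField.toField
  exact isCyclic_of_injective_ringHom hS.toK hS.toK_injective

theorem neg_one_mem [Nontrivial V] (hS : FieldSetup G Z K) : (-1 : (AddMonoid.End V)ˣ) ∈ Z := by
  rcases (hS.mem_iff (-1 : AddMonoid.End V)).1 (K.neg_mem K.one_mem) with h | ⟨z, hz, h⟩
  · exfalso
    obtain ⟨v, hv⟩ := exists_ne (0 : V)
    exact hv (neg_eq_zero.1 (DFunLike.congr_fun h v : -v = 0))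
  · rwa [show (-1 : (AddMonoid.End V)ˣ) = z from Units.ext (by rw [h]; rfl)]

theorem exists_zpow_of_not_pow [Nontrivial V] (hS : FieldSetup G Z K) {q : ℕ} (hq : q.Prime)
    {a b : (AddMonoid.End V)ˣ} (ha : a ∈ Z) (hb : b ∈ Z) (hnot : ∀ w ∈ Z, w ^ q ≠ a) :
    ∃ k : ℕ, ∃ w ∈ Z, a ^ k * w ^ q = b := by
  haveI := hS.isCyclic
  obtain ⟨g, hg⟩ := IsCyclic.exists_generator (α := Z)
  obtain ⟨i, hi⟩ := Subgroup.mem_zpowers_iff.1 (hg ⟨a, ha⟩)
  obtain ⟨j, hj⟩ := Subgroup.mem_zpowers_iff.1 (hg ⟨b, hb⟩)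
  have hiq : ¬ (q : ℤ) ∣ i := by
    rintro ⟨c, rfl⟩
    refine hnot (g ^ c : Z).1 (g ^ c : Z).2 ?_
    rw [← SubgroupClass.coe_pow, ← zpow_natCast, ← zpow_mul, mul_comm c, hi]
  haveI := Fact.mk hq
  have hunit : (i : ZMod q) ≠ 0 := fun h => hiq ((ZMod.intCast_zmod_eq_zero_iff_dvd i q).1 h)
  let k : ℕ := ((j : ZMod q) / (i : ZMod q)).val
  have hk : (q : ℤ) ∣ j - i * k := by
    rw [← ZMod.intCast_zmod_eq_zero_iff_dvd]
    push_cast
    rw [ZMod.natCast_zmod_val, mul_div_cancel₀ _ hunit, sub_self]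
  obtain ⟨c, hc⟩ := hk
  refine ⟨k, (g ^ c : Z).1, (g ^ c : Z).2, ?_⟩
  have : (⟨a, ha⟩ : Z) ^ k * (g ^ c) ^ q = ⟨b, hb⟩ := by
    rw [← hi, ← hj, ← zpow_natCast (g ^ i), ← zpow_natCast (g ^ c), ← zpow_mul, ← zpow_mul,
      ← zpow_add]
    congr 1
    linarith
  exact congrArg Subtype.val this

end FieldSetup

/-- The exponent bound modulo `Z`. -/
noncomputable def sfExp (V : Type) [AddCommGroup V] : ℕ := primorial (Nat.card (AddMonoid.End V)ˣ)

theorem squarefree_sfExp : Squarefree (sfExp V) := by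
  rw [sfExp, primorial]
  refine (Finset.squarefree_prod_of_pairwise_isCoprime ?_ ?_)
  · intro p hp q hq hne
    simp only [Finset.coe_filter, Set.mem_ofPred_eq] at hp hq
    simpa [Function.onFun, ← Nat.coprime_iff_isRelPrime] using
      (Nat.coprime_primes hp.2 hq.2).2 hne
  · intro p hp
    exact (Finset.mem_filter.1 hp).2.squarefree

theorem dvd_sfExp {q : ℕ} (hq : q.Prime) {x : (AddMonoid.End V)ˣ} (hx : orderOf x = q) :
    q ∣ sfExp V :=
  hq.dvd_primorial_iff.2 (hx ▸ Nat.le_of_dvd Nat.card_pos (orderOf_dvd_natCard x))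

/-- The defining properties of `F`. -/
structure GoodF (G Z F : Subgroup (AddMonoid.End V)ˣ) : Prop where
  Z_le : Z ≤ F
  le : F ≤ G
  norm : ∀ g ∈ G, ∀ f ∈ F, g * f * g⁻¹ ∈ F
  cent : ∀ f ∈ F, ∀ z ∈ Z, f * z = z * f
  comm_mem : ∀ x ∈ F, ∀ y ∈ F, ⁅x, y⁆ ∈ Z
  pow_mem : ∀ f ∈ F, f ^ sfExp V ∈ Z

/-- A decomposition of `H` into two dual split subgroups and an anisotropic part. -/
structure IsFrame (Z H A B R : Subgroup (AddMonoid.End V)ˣ) : Prop where
  A_le : A ≤ H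
  B_le : B ≤ H
  R_le : R ≤ H
  Z_le : Z ≤ R
  A_comm : ∀ a ∈ A, ∀ a' ∈ A, ⁅a, a'⁆ = 1
  B_comm : ∀ b ∈ B, ∀ b' ∈ B, ⁅b, b'⁆ = 1
  AR : ∀ a ∈ A, ∀ r ∈ R, ⁅a, r⁆ = 1
  BR : ∀ b ∈ B, ∀ r ∈ R, ⁅b, r⁆ = 1
  A_nd : ∀ a ∈ A, (∀ b ∈ B, ⁅a, b⁆ = 1) → a = 1
  B_nd : ∀ b ∈ B, (∀ a ∈ A, ⁅a, b⁆ = 1) → b = 1
  decomp : ∀ h ∈ H, ∃ a ∈ A, ∃ b ∈ B, ∃ r ∈ R, h = a * b * r
  aniso : ∀ r ∈ R, r ∉ Z → r ^ 2 ∈ Z ∧ ∀ z ∈ Z, z ^ 2 ≠ r ^ 2
  shape : R = Z ∨ ∃ α ∈ R, ∃ β ∈ R, α ^ 2 = -1 ∧ β ^ 2 = -1 ∧ α * β = -(β * α) ∧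
    ∀ r ∈ R, ∃ z ∈ Z, ∃ i j : ℕ, r = z * α ^ i * β ^ j

/-- Adjoining an element of order dividing `q` commuting with a subgroup. -/
theorem exists_adjoin {A : Subgroup (AddMonoid.End V)ˣ} {x : (AddMonoid.End V)ˣ} {q : ℕ}
    (hq : 0 < q) (hx : x ^ q = 1) (hc : ∀ a ∈ A, a * x = x * a) :
    ∃ A' : Subgroup (AddMonoid.End V)ˣ, ∀ g, g ∈ A' ↔ ∃ a ∈ A, ∃ i : ℕ, g = a * x ^ i := by
  refine ⟨{ carrier := {g | ∃ a ∈ A, ∃ i : ℕ, g = a * x ^ i}
            one_mem' := ⟨1, A.one_mem, 0, by simp⟩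
            mul_mem' := ?_
            inv_mem' := ?_ }, fun g => Iff.rfl⟩
  · rintro _ _ ⟨a, ha, i, rfl⟩ ⟨b, hb, j, rfl⟩
    refine ⟨a * b, A.mul_mem ha hb, i + j, ?_⟩
    have h : x ^ i * b = b * x ^ i := ((show Commute b x from hc b hb).pow_right i).eq.symm
    rw [pow_add, mul_assoc a, ← mul_assoc (x ^ i) b, h]
    simp only [mul_assoc]
  · rintro _ ⟨a, ha, i, rfl⟩
    refine ⟨a⁻¹, A.inv_mem ha, (q - 1) * i, ?_⟩
    have h : (x ^ i)⁻¹ = x ^ ((q - 1) * i) := inv_eq_of_mul_eq_one_right (by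
      rw [← pow_add, show i + (q - 1) * i = q * i by
        obtain ⟨m, rfl⟩ : ∃ m, q = m + 1 := ⟨q - 1, by omega⟩
        simp only [Nat.add_sub_cancel]; ring,
        pow_mul, hx, one_pow])
    rw [mul_inv_rev, h]
    exact ((show Commute a⁻¹ x from (show Commute a x from hc a ha).inv_left).pow_right _).eq.symm

namespace GoodF

variable {F : Subgroup (AddMonoid.End V)ˣ} (hF : GoodF G Z F)
include hF

theorem comm_central {x y w : (AddMonoid.End V)ˣ} (hx : x ∈ F) (hy : y ∈ F) (hw : w ∈ F) :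
    ⁅x, y⁆ * w = w * ⁅x, y⁆ := (hF.cent w hw _ (hF.comm_mem x hx y hy)).symm

theorem comm_mul_right {x y y' : (AddMonoid.End V)ˣ} (hx : x ∈ F) (hy : y ∈ F) (hy' : y' ∈ F) :
    ⁅x, y * y'⁆ = ⁅x, y⁆ * ⁅x, y'⁆ := by
  have h : ⁅x, y * y'⁆ = ⁅x, y⁆ * (y * ⁅x, y'⁆ * y⁻¹) := by
    simp only [commutatorElement_def]
    group
  rw [h, ← hF.comm_central hx hy' hy, mul_inv_cancel_right]

theorem comm_mul_left {x x' y : (AddMonoid.End V)ˣ} (hx : x ∈ F) (hx' : x' ∈ F) (hy : y ∈ F) :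
    ⁅x * x', y⁆ = ⁅x, y⁆ * ⁅x', y⁆ := by
  have h : ⁅x * x', y⁆ = x * ⁅x', y⁆ * x⁻¹ * ⁅x, y⁆ := by
    simp only [commutatorElement_def]
    group
  rw [h, ← hF.comm_central hx' hy hx, mul_inv_cancel_right,
    hF.comm_central hx' hy (hF.Z_le (hF.comm_mem x hx y hy))]

theorem comm_pow_right {x y : (AddMonoid.End V)ˣ} (hx : x ∈ F) (hy : y ∈ F) (n : ℕ) :
    ⁅x, y ^ n⁆ = ⁅x, y⁆ ^ n := by
  induction n with
  | zero => simp [commutatorElement_def]
  | succ n ih => rw [pow_succ, hF.comm_mul_right hx (F.pow_mem hy n) hy, ih, pow_succ]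

theorem comm_pow_left {x y : (AddMonoid.End V)ˣ} (hx : x ∈ F) (hy : y ∈ F) (n : ℕ) :
    ⁅x ^ n, y⁆ = ⁅x, y⁆ ^ n := by
  induction n with
  | zero => simp [commutatorElement_def]
  | succ n ih => rw [pow_succ, hF.comm_mul_left (F.pow_mem hx n) hx hy, ih, pow_succ]

theorem comm_Z_right {x z : (AddMonoid.End V)ˣ} (hx : x ∈ F) (hz : z ∈ Z) : ⁅x, z⁆ = 1 :=
  commutatorElement_eq_one_iff_mul_comm.2 (hF.cent x hx z hz)

theorem comm_Z_left {x z : (AddMonoid.End V)ˣ} (hx : x ∈ F) (hz : z ∈ Z) : ⁅z, x⁆ = 1 :=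
  commutatorElement_eq_one_iff_mul_comm.2 (hF.cent x hx z hz).symm

theorem comm_pow_eq_one {x y : (AddMonoid.End V)ˣ} (hx : x ∈ F) (hy : y ∈ F) {n : ℕ}
    (hn : x ^ n ∈ Z) : ⁅x, y⁆ ^ n = 1 := by
  rw [← hF.comm_pow_left hx hy, hF.comm_Z_left hy hn]

theorem mul_pow_eq {x y : (AddMonoid.End V)ˣ} (hx : x ∈ F) (hy : y ∈ F) (n : ℕ) :
    (x * y) ^ n = x ^ n * y ^ n * ⁅y, x⁆ ^ n.choose 2 := by
  induction n with
  | zero => simp
  | succ n ih =>
    have hc : ∀ m : ℕ, ∀ w ∈ F, ⁅y, x⁆ ^ m * w = w * ⁅y, x⁆ ^ m := fun m w hw =>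
      ((hF.cent w hw _ (Z.pow_mem (hF.comm_mem y hy x hx) m))).symm
    have h1 : y ^ n * x = ⁅y, x⁆ ^ n * (x * y ^ n) := by
      rw [← hF.comm_pow_left hy hx, commutatorElement_def]
      group
    calc (x * y) ^ (n + 1) = x ^ n * y ^ n * (⁅y, x⁆ ^ n.choose 2 * (x * y)) := by
          rw [pow_succ, ih, mul_assoc]
      _ = x ^ n * (y ^ n * x) * y * ⁅y, x⁆ ^ n.choose 2 := by
          rw [hc _ _ (F.mul_mem hx hy)]; simp only [mul_assoc]
      _ = x ^ n * (x * y ^ n * y * ⁅y, x⁆ ^ n) * ⁅y, x⁆ ^ n.choose 2 := by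
          rw [h1]
          simp only [mul_assoc]
          congr 1
          rw [← mul_assoc (⁅y, x⁆ ^ n) x, hc _ _ hx, mul_assoc x]
          congr 1
          rw [← mul_assoc (⁅y, x⁆ ^ n) (y ^ n), hc _ _ (F.pow_mem hy n), mul_assoc]
          congr 1
          rw [← mul_assoc, hc _ _ hy, mul_assoc]
      _ = x ^ (n + 1) * y ^ (n + 1) * ⁅y, x⁆ ^ (n + 1).choose 2 := by
          rw [show (n + 1).choose 2 = n + n.choose 2 by simp [Nat.choose_succ_succ'], pow_succ x n,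
            pow_succ y n, pow_add]
          simp only [mul_assoc]

theorem natCard_ne_zero [Nontrivial V] (hS : FieldSetup G Z K)
    (hC : ∀ g ∈ G, (∀ f ∈ F, g * f = f * g) → g ∈ Z) {S : Subgroup (AddMonoid.End V)ˣ}
    (hSF : S ≤ F) : ((Nat.card S : ℕ) : K) ≠ 0 := by
  letI := hS.isField.toField
  intro h0
  obtain ⟨p, hp⟩ := CharP.exists K
  have hpS : p ∣ Nat.card S := (CharP.cast_eq_zero_iff K p _).1 h0
  haveI : Fact p.Prime := ⟨CharP.char_is_prime K p⟩
  obtain ⟨x, hx⟩ := exists_prime_orderOf_dvd_card' p hpS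
  have hxp : (x : (AddMonoid.End V)ˣ) ^ p = 1 := by
    rw [← SubgroupClass.coe_pow, ← hx, pow_orderOf_eq_one, OneMemClass.coe_one]
  have hx1 : (x : (AddMonoid.End V)ˣ) ≠ 1 := fun h => by
    rw [show x = 1 from Subtype.ext h, orderOf_one] at hx
    exact (Fact.out : p.Prime).one_lt.ne hx
  obtain ⟨ζ, hζ, hζp, hζ1⟩ : ∃ ζ ∈ Z, ζ ^ p = 1 ∧ ζ ≠ 1 := by
    by_cases hxZ : (x : (AddMonoid.End V)ˣ) ∈ Z
    · exact ⟨_, hxZ, hxp, hx1⟩
    · obtain ⟨y, hy, hxy⟩ : ∃ y ∈ F, ⁅(x : (AddMonoid.End V)ˣ), y⁆ ≠ 1 := by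
        by_contra hne
        push Not at hne
        exact hxZ (hC _ (hF.le (hSF x.2)) fun f hf =>
          commutatorElement_eq_one_iff_mul_comm.1 (hne f hf))
      exact ⟨_, hF.comm_mem _ (hSF x.2) _ hy,
        hF.comm_pow_eq_one (hSF x.2) hy (by rw [hxp]; exact Z.one_mem), hxy⟩
  have h1 : hS.toK ⟨ζ, hζ⟩ ^ p = 1 := by
    rw [← map_pow, ← map_one hS.toK]
    exact congrArg _ (Subtype.ext hζp)
  have h2 : (hS.toK ⟨ζ, hζ⟩ - 1) ^ p = 0 := by rw [sub_pow_char, h1, one_pow, sub_self]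
  have h3 : hS.toK ⟨ζ, hζ⟩ = 1 := sub_eq_zero.1 (eq_zero_of_pow_eq_zero h2)
  exact hζ1 (congrArg Subtype.val (hS.toK_injective (h3.trans (map_one hS.toK).symm)))

/-- Every character of `H` given by a commutator with `F` is given by a commutator with `H`. -/
theorem exists_dual [Nontrivial V] (hS : FieldSetup G Z K)
    (hC : ∀ g ∈ G, (∀ f ∈ F, g * f = f * g) → g ∈ Z) {H : Subgroup (AddMonoid.End V)ˣ}
    (hHF : H ≤ F) (hZH : Z ≤ H) (hcen : ∀ x ∈ H, (∀ y ∈ H, ⁅x, y⁆ = 1) → x ∈ Z)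
    {d : (AddMonoid.End V)ˣ} (hd : d ∈ F) : ∃ f ∈ H, ∀ x ∈ H, ⁅x, d * f⁆ = 1 := by
  classical
  letI := hS.isField.toField
  haveI := Fintype.ofFinite H
  by_contra hne
  push Not at hne
  let χ : ∀ e, e ∈ F → H →* K := fun e he =>
    { toFun := fun x => hS.toK ⟨⁅(x : (AddMonoid.End V)ˣ), e⁆, hF.comm_mem _ (hHF x.2) e he⟩
      map_one' := by
        rw [← map_one hS.toK]
        exact congrArg _ (Subtype.ext (commutatorElement_one_left e))
      map_mul' := fun a b => by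
        rw [← map_mul]
        exact congrArg _ (Subtype.ext (hF.comm_mul_left (hHF a.2) (hHF b.2) he)) }
  have hz : ∀ f : H, ∑ x, χ (d * f) (F.mul_mem hd (hHF f.2)) x = 0 := by
    intro f
    refine sum_hom_units_eq_zero _ fun h => ?_
    obtain ⟨x, hx, hx'⟩ := hne f f.2
    have := hS.toK_injective ((DFunLike.congr_fun h ⟨x, hx⟩).trans (map_one hS.toK).symm)
    exact hx' (congrArg Subtype.val this)
  have hsum : ∑ x : H, ∑ f : H, χ (d * f) (F.mul_mem hd (hHF f.2)) x = 0 := by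
    rw [Finset.sum_comm]
    exact Finset.sum_eq_zero fun f _ => hz f
  have hterm : ∀ x : H, ∑ f : H, χ (d * f) (F.mul_mem hd (hHF f.2)) x =
      if (x : (AddMonoid.End V)ˣ) ∈ Z then (Fintype.card H : K) else 0 := by
    intro x
    let ψ : H →* K :=
      { toFun := fun f => hS.toK ⟨⁅(x : (AddMonoid.End V)ˣ), (f : (AddMonoid.End V)ˣ)⁆,
          hF.comm_mem _ (hHF x.2) _ (hHF f.2)⟩
        map_one' := by
          rw [← map_one hS.toK]
          exact congrArg _ (Subtype.ext (commutatorElement_one_right _))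
        map_mul' := fun a b => by
          rw [← map_mul]
          exact congrArg _ (Subtype.ext (hF.comm_mul_right (hHF x.2) (hHF a.2) (hHF b.2))) }
    have hfac : ∀ f : H, χ (d * f) (F.mul_mem hd (hHF f.2)) x = χ d hd x * ψ f := by
      intro f
      show hS.toK _ = hS.toK _ * hS.toK _
      rw [← map_mul]
      exact congrArg _ (Subtype.ext (hF.comm_mul_right (hHF x.2) hd (hHF f.2)))
    rw [Finset.sum_congr rfl fun f _ => hfac f, ← Finset.mul_sum]
    split_ifs with hx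
    · have h1 : χ d hd x = 1 := by
        rw [← map_one hS.toK]
        exact congrArg hS.toK (Subtype.ext (hF.comm_Z_left hd hx))
      have h2 : ∀ f : H, ψ f = 1 := fun f => by
        rw [← map_one hS.toK]
        exact congrArg hS.toK (Subtype.ext (hF.comm_Z_left (hHF f.2) hx))
      simp [h1, h2]
    · have hψ : ψ ≠ 1 := fun h => hx (hcen x x.2 fun y hy => by
        have := hS.toK_injective ((DFunLike.congr_fun h ⟨y, hy⟩).trans (map_one hS.toK).symm)
        exact congrArg Subtype.val this)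
      rw [sum_hom_units_eq_zero ψ hψ, mul_zero]
  rw [Finset.sum_congr rfl fun x _ => hterm x, Finset.sum_ite, Finset.sum_const_zero, add_zero,
    Finset.sum_const, nsmul_eq_mul] at hsum
  have hcardZ : (Finset.univ.filter fun x : H => (x : (AddMonoid.End V)ˣ) ∈ Z).card = Nat.card Z := by
    rw [← Nat.card_congr (Subgroup.subgroupOfEquivOfLe hZH).toEquiv, Nat.card_eq_fintype_card,
      Fintype.card_of_subtype]
    intro x
    simp [Subgroup.mem_subgroupOf]
  rcases mul_eq_zero.1 hsum with h | h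
  · rw [hcardZ] at h
    exact hF.natCard_ne_zero hS hC hF.Z_le h
  · rw [← Nat.card_eq_fintype_card] at h
    exact hF.natCard_ne_zero hS hC hHF h

/-- Powers of odd prime order, and squares if `-1` is a square, are powers of scalars. -/
theorem exists_root [Nontrivial V] (hS : FieldSetup G Z K)
    (hC : ∀ g ∈ G, (∀ f ∈ F, g * f = f * g) → g ∈ Z) {q : ℕ} (hq : q.Prime)
    (hcase : q ≠ 2 ∨ ∃ w ∈ Z, w ^ 2 = (-1 : (AddMonoid.End V)ˣ))
    {f : (AddMonoid.End V)ˣ} (hf : f ∈ F) (hfq : f ^ q ∈ Z) : ∃ z ∈ Z, z ^ q = f ^ q := by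
  letI := hS.isField.toField
  by_contra hcon
  push Not at hcon
  have hsq : ∀ x ∈ F, ∀ y ∈ F, x ^ q ∈ Z → ∃ s ∈ Z, s ^ q = ⁅y, x⁆ ^ q.choose 2 := by
    intro x hx y hy hxq
    have hyx : ⁅y, x⁆ ^ q = 1 := by
      rw [← commutatorElement_inv, inv_pow, hF.comm_pow_eq_one hx hy hxq, inv_one]
    rcases eq_or_ne q 2 with h2 | h2
    · subst h2
      obtain ⟨w, hw, hw2⟩ := hcase.resolve_left (by simp)
      have hc : hS.toK ⟨_, hF.comm_mem y hy x hx⟩ ^ 2 = 1 := by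
        rw [← map_pow, ← map_one hS.toK]
        exact congrArg _ (Subtype.ext hyx)
      rcases sq_eq_one_iff.1 hc with h | h
      · refine ⟨1, Z.one_mem, ?_⟩
        have h' := hS.toK_injective (h.trans (map_one hS.toK).symm)
        rw [show ⁅y, x⁆ = 1 from congrArg Subtype.val h', one_pow, one_pow]
      · refine ⟨w, hw, ?_⟩
        rw [hw2, show Nat.choose 2 2 = 1 from rfl, pow_one]
        exact Units.ext (congrArg Subtype.val h).symm
    · refine ⟨1, Z.one_mem, ?_⟩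
      obtain ⟨m, hm⟩ := hq.odd_of_ne_two h2
      have : q.choose 2 = q * m := by
        rw [Nat.choose_two_right, hm, show 2 * m + 1 - 1 = 2 * m from rfl,
          show (2 * m + 1) * (2 * m) = 2 * ((2 * m + 1) * m) by ring, Nat.mul_div_cancel_left _ two_pos]
      rw [one_pow, this, pow_mul, hyx, one_pow]
  have hZF : ∀ z ∈ Z, ∀ x ∈ F, x * z = z * x := fun z hz x hx => hF.cent x hx z hz
  -- `Φ`: the elements whose `q`-th power is a power of a scalar
  let Φ : Subgroup (AddMonoid.End V)ˣ :=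
    { carrier := {x | x ∈ F ∧ ∃ z ∈ Z, z ^ q = x ^ q}
      one_mem' := ⟨F.one_mem, 1, Z.one_mem, rfl⟩
      mul_mem' := by
        rintro x y ⟨hx, zx, hzx, ex⟩ ⟨hy, zy, hzy, ey⟩
        obtain ⟨s, hs, es⟩ := hsq x hx y hy (ex ▸ Z.pow_mem hzx q)
        refine ⟨F.mul_mem hx hy, zx * zy * s, Z.mul_mem (Z.mul_mem hzx hzy) hs, ?_⟩
        rw [hF.mul_pow_eq hx hy, Commute.mul_pow (hS.comm _ (Z.mul_mem hzx hzy) _ hs),
          Commute.mul_pow (hS.comm _ hzx _ hzy), ex, ey, es]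
      inv_mem' := by
        rintro x ⟨hx, zx, hzx, ex⟩
        exact ⟨F.inv_mem hx, zx⁻¹, Z.inv_mem hzx, by rw [inv_pow, inv_pow, ex]⟩ }
  have hΦF : Φ ≤ F := fun x hx => hx.1
  have hZΦ : Z ≤ Φ := fun z hz => ⟨hF.Z_le hz, z, hz, rfl⟩
  have hΦn : ∀ g ∈ G, ∀ x ∈ Φ, g * x * g⁻¹ ∈ Φ := by
    rintro g hg x ⟨hx, z, hz, e⟩
    exact ⟨hF.norm g hg x hx, g * z * g⁻¹, hS.norm g hg z hz, by rw [conj_pow, conj_pow, e]⟩
  have hcen : ∀ x ∈ Φ, (∀ y ∈ Φ, ⁅x, y⁆ = 1) → x ∈ Z := by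
    intro x hx hxc
    let M : Subgroup (AddMonoid.End V)ˣ :=
      { carrier := {w | w ∈ Φ ∧ ∀ y ∈ Φ, ⁅w, y⁆ = 1}
        one_mem' := ⟨Φ.one_mem, fun y _ => commutatorElement_one_left y⟩
        mul_mem' := fun {a b} ha hb => ⟨Φ.mul_mem ha.1 hb.1, fun y hy => by
          rw [hF.comm_mul_left (hΦF ha.1) (hΦF hb.1) (hΦF hy), ha.2 y hy, hb.2 y hy, one_mul]⟩
        inv_mem' := fun {a} ha => ⟨Φ.inv_mem ha.1, fun y hy => by
          have h := hF.comm_mul_left (hΦF (Φ.inv_mem ha.1)) (hΦF ha.1) (hΦF hy)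
          rwa [inv_mul_cancel, ha.2 y hy, mul_one, commutatorElement_one_left, eq_comm] at h⟩ }
    have : M = Z := hS.max M (fun w hw => hF.le (hΦF hw.1))
      (fun z hz => ⟨hZΦ hz, fun y hy => hF.comm_Z_left (hΦF hy) hz⟩)
      (fun g hg w hw => ⟨hΦn g hg w hw.1, fun y hy => by
        have h := hw.2 (g⁻¹ * y * g⁻¹⁻¹) (hΦn _ (G.inv_mem hg) y hy)
        rw [commutatorElement_eq_one_iff_mul_comm] at h ⊢
        calc g * w * g⁻¹ * y = g * (w * (g⁻¹ * y * g⁻¹⁻¹)) * g⁻¹ := by group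
          _ = g * ((g⁻¹ * y * g⁻¹⁻¹) * w) * g⁻¹ := by rw [h]
          _ = y * (g * w * g⁻¹) := by group⟩)
      (fun a ha b hb => commutatorElement_eq_one_iff_mul_comm.1 (ha.2 b hb.1))
    exact this ▸ (show x ∈ M from ⟨hx, hxc⟩)
  obtain ⟨f0, hf0, hψ⟩ := hF.exists_dual hS hC hΦF hZΦ hcen hf
  -- `ψ = f * f0` is central in `F`
  have hψF : f * f0 ∈ F := F.mul_mem hf (hΦF hf0)
  obtain ⟨hf0F, z0, hz0, e0⟩ := hf0
  obtain ⟨s0, hs0, es0⟩ := hsq f hf f0 hf0F hfq
  have hψq : (f * f0) ^ q ∈ Z := by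
    rw [hF.mul_pow_eq hf hf0F, ← e0, ← es0]
    exact Z.mul_mem (Z.mul_mem hfq (Z.pow_mem hz0 q)) (Z.pow_mem hs0 q)
  have hψnot : ∀ w ∈ Z, w ^ q ≠ (f * f0) ^ q := by
    intro w hw e
    have hmem : f * f0 ∈ Φ := ⟨hψF, w, hw, e⟩
    have : f ∈ Φ := by
      have := Φ.mul_mem hmem (Φ.inv_mem (⟨hf0F, z0, hz0, e0⟩ : f0 ∈ Φ))
      rwa [mul_inv_cancel_right] at this
    obtain ⟨-, z, hz, ez⟩ := this
    exact hcon z hz ez
  have hψc : ∀ y ∈ F, ⁅f * f0, y⁆ = 1 := by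
    intro y hy
    have hq1 : ⁅f * f0, y⁆ ^ q = 1 := hF.comm_pow_eq_one hψF hy hψq
    have hN : ⁅f * f0, y⁆ ^ sfExp V = 1 := by
      rw [← hF.comm_pow_right hψF hy, hF.comm_Z_right hψF (hF.pow_mem y hy)]
    by_cases hdvd : q ∣ sfExp V
    swap
    · have h := pow_gcd_eq_one.2 ⟨hq1, hN⟩
      rwa [(hq.coprime_iff_not_dvd.2 hdvd), pow_one] at h
    obtain ⟨m, hm⟩ := hdvd
    have hco : q.Coprime m := Nat.coprime_of_squarefree_mul (hm ▸ squarefree_sfExp (V := V))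
    have hy1 : (y ^ m) ^ q ∈ Z := by
      rw [← pow_mul, mul_comm, ← hm]
      exact hF.pow_mem y hy
    obtain ⟨k, w, hw, ek⟩ := hS.exists_zpow_of_not_pow hq hψq hy1 hψnot
    -- `y ^ m = ψ ^ k * (element of Φ)`
    have hyF : y ^ m ∈ F := F.pow_mem hy m
    have hkF : ((f * f0) ^ k)⁻¹ ∈ F := F.inv_mem (F.pow_mem hψF k)
    obtain ⟨s, hs, es⟩ := hsq _ hkF (y ^ m) hyF (by
      rw [inv_pow, ← pow_mul, mul_comm, pow_mul]
      exact Z.inv_mem (Z.pow_mem hψq k))
    have hmem : ((f * f0) ^ k)⁻¹ * y ^ m ∈ Φ := by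
      refine ⟨F.mul_mem hkF hyF, w * s, Z.mul_mem hw hs, ?_⟩
      rw [Commute.mul_pow (hS.comm _ hw _ hs), es, hF.mul_pow_eq hkF hyF, inv_pow, ← pow_mul,
        mul_comm k q, pow_mul, ← ek, ← mul_assoc, inv_mul_cancel, one_mul]
    have h1 : ⁅f * f0, ((f * f0) ^ k)⁻¹ * y ^ m⁆ = 1 := by
      rw [← commutatorElement_inv, hψ _ hmem, inv_one]
    have h2 : ⁅f * f0, ((f * f0) ^ k)⁻¹⁆ = 1 := commutatorElement_eq_one_iff_mul_comm.2
      ((Commute.refl (f * f0)).pow_right k).inv_right.eq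
    rw [hF.comm_mul_right hψF hkF hyF, h2, one_mul, hF.comm_pow_right hψF hy] at h1
    have h := pow_gcd_eq_one.2 ⟨hq1, h1⟩
    rwa [hco, pow_one] at h
  have := hC _ (hF.le hψF) fun y hy => commutatorElement_eq_one_iff_mul_comm.1 (hψc y hy)
  exact hψnot _ this rfl

theorem exists_frame [Nontrivial V] (hS : FieldSetup G Z K)
    (hC : ∀ g ∈ G, (∀ f ∈ F, g * f = f * g) → g ∈ Z) :
    ∀ n, ∀ H : Subgroup (AddMonoid.End V)ˣ, Nat.card H ≤ n → Z ≤ H → H ≤ F →
      (∀ x ∈ H, (∀ y ∈ H, ⁅x, y⁆ = 1) → x ∈ Z) →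
      ∃ A B R, IsFrame Z H A B R := by
  letI := hS.isField.toField
  intro n
  induction n with
  | zero => intro H hn; exact absurd (Nat.card_pos (α := H)) (by omega)
  | succ n ih =>
    intro H hn hZH hHF hcen
    have hneg : ∀ c ∈ Z, c ^ 2 = 1 → c ≠ 1 → c = -1 := by
      intro c hc h2 h1
      have h : hS.toK ⟨c, hc⟩ ^ 2 = 1 := by
        rw [← map_pow, ← map_one hS.toK]
        exact congrArg _ (Subtype.ext h2)
      rcases sq_eq_one_iff.1 h with h | h
      · exact absurd (congrArg Subtype.val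
          (hS.toK_injective (h.trans (map_one hS.toK).symm))) h1
      · exact Units.ext (congrArg Subtype.val h)
    by_cases hsplit : ∃ q : ℕ, q.Prime ∧ ∃ x ∈ H, x ∉ Z ∧ x ^ q = 1
    · obtain ⟨q, hq, x, hxH, hxZ, hxq⟩ := hsplit
      have hxF := hHF hxH
      obtain ⟨y0, hy0, hxy0⟩ : ∃ y ∈ H, ⁅x, y⁆ ≠ 1 := by
        by_contra hne
        push Not at hne
        exact hxZ (hcen x hxH hne)
      have hy0F := hHF hy0
      have hxqZ : x ^ q ∈ Z := by rw [hxq]; exact Z.one_mem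
      have hord : orderOf ⁅x, y0⁆ = q := by
        haveI := Fact.mk hq
        exact orderOf_eq_prime (hF.comm_pow_eq_one hxF hy0F hxqZ) hxy0
      obtain ⟨m, hm⟩ : q ∣ sfExp V := by
        rw [← hord]
        exact orderOf_dvd_of_pow_eq_one (by
          rw [← hF.comm_pow_right hxF hy0F, hF.comm_Z_right hxF (hF.pow_mem y0 hy0F)])
      have hco : q.Coprime m := Nat.coprime_of_squarefree_mul (hm ▸ squarefree_sfExp (V := V))
      -- a partner `y` of `x` with `y ^ q = 1`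
      obtain ⟨y, hyH, hyq, hxy⟩ : ∃ y ∈ H, y ^ q = 1 ∧ ⁅x, y⁆ ≠ 1 := by
        have hy1 : y0 ^ m ∈ H := H.pow_mem hy0 m
        have hy1q : (y0 ^ m) ^ q ∈ Z := by
          rw [← pow_mul, mul_comm, ← hm]
          exact hF.pow_mem y0 hy0F
        have hc1 : ⁅x, y0 ^ m⁆ ≠ 1 := by
          rw [hF.comm_pow_right hxF hy0F]
          intro h
          have := orderOf_dvd_of_pow_eq_one h
          rw [hord] at this
          exact hq.one_lt.ne' (Nat.Coprime.eq_one_of_dvd hco this)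
        have key : ∀ e ∈ H, ⁅x, e⁆ ≠ 1 → (∃ z ∈ Z, z ^ q = e ^ q) →
            ∃ y ∈ H, y ^ q = 1 ∧ ⁅x, y⁆ ≠ 1 := by
          rintro e he hne ⟨z, hz, hze⟩
          refine ⟨z⁻¹ * e, H.mul_mem (hZH (Z.inv_mem hz)) he, ?_, ?_⟩
          · rw [Commute.mul_pow (hF.cent e (hHF he) _ (Z.inv_mem hz)).symm, inv_pow, hze,
              inv_mul_cancel]
          · rwa [hF.comm_mul_right hxF (hF.Z_le (Z.inv_mem hz)) (hHF he),
              hF.comm_Z_right hxF (Z.inv_mem hz), one_mul]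
        by_cases hroot : ∃ z ∈ Z, z ^ q = (y0 ^ m) ^ q
        · exact key _ hy1 hc1 hroot
        have hcase : ¬ (q ≠ 2 ∨ ∃ w ∈ Z, w ^ 2 = (-1 : (AddMonoid.End V)ˣ)) := fun h =>
          hroot (hF.exists_root hS hC hq h (hHF hy1) hy1q)
        push Not at hcase
        obtain ⟨rfl, hns⟩ := hcase
        refine key (x * y0 ^ m) (H.mul_mem hxH hy1) ?_ ?_
        · rw [hF.comm_mul_right hxF hxF (hHF hy1),
            show ⁅x, x⁆ = 1 from commutatorElement_eq_one_iff_mul_comm.2 rfl, one_mul]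
          exact hc1
        · have hc2 : ⁅y0 ^ m, x⁆ = -1 := hneg _ (hF.comm_mem _ (hHF hy1) _ hxF)
            (by rw [← commutatorElement_inv, inv_pow,
              hF.comm_pow_eq_one hxF (hHF hy1) hxqZ, inv_one])
            (fun h => hc1 (by rw [← commutatorElement_inv, h, inv_one]))
          rw [hF.mul_pow_eq hxF (hHF hy1), hxq, one_mul, show Nat.choose 2 2 = 1 from rfl, pow_one,
            hc2]
          push Not at hroot
          obtain ⟨k, w, hw, ek⟩ := hS.exists_zpow_of_not_pow Nat.prime_two hy1q hS.neg_one_mem hroot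
          rcases Nat.even_or_odd k with ⟨l, rfl⟩ | ⟨l, rfl⟩
          · refine absurd ?_ (hns ((((y0 ^ m) ^ 2) ^ l) * w) (Z.mul_mem (Z.pow_mem hy1q l) hw))
            rw [Commute.mul_pow (hS.comm _ (Z.pow_mem hy1q l) _ hw), ← pow_mul, mul_two]
            exact ek
          · refine ⟨((y0 ^ m) ^ 2) ^ (l + 1) * w, Z.mul_mem (Z.pow_mem hy1q _) hw, ?_⟩
            rw [Commute.mul_pow (hS.comm _ (Z.pow_mem hy1q _) _ hw), ← ek, ← mul_assoc, ← pow_mul,
              ← pow_succ']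
            congr 2
            omega
      have hyF := hHF hyH
      have hyqZ : y ^ q ∈ Z := by rw [hyq]; exact Z.one_mem
      have hζord : orderOf ⁅x, y⁆ = q := by
        haveI := Fact.mk hq
        exact orderOf_eq_prime (hF.comm_pow_eq_one hxF hyF hxqZ) hxy
      let H' : Subgroup (AddMonoid.End V)ˣ :=
        { carrier := {h | h ∈ H ∧ ⁅x, h⁆ = 1 ∧ ⁅y, h⁆ = 1}
          one_mem' := ⟨H.one_mem, commutatorElement_one_right x, commutatorElement_one_right y⟩
          mul_mem' := fun {a b} ha hb => ⟨H.mul_mem ha.1 hb.1,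
            by rw [hF.comm_mul_right hxF (hHF ha.1) (hHF hb.1), ha.2.1, hb.2.1, one_mul],
            by rw [hF.comm_mul_right hyF (hHF ha.1) (hHF hb.1), ha.2.2, hb.2.2, one_mul]⟩
          inv_mem' := fun {a} ha => ⟨H.inv_mem ha.1,
            commutatorElement_eq_one_iff_mul_comm.2
              (show Commute x a from commutatorElement_eq_one_iff_mul_comm.1 ha.2.1).inv_right.eq,
            commutatorElement_eq_one_iff_mul_comm.2
              (show Commute y a from commutatorElement_eq_one_iff_mul_comm.1 ha.2.2).inv_right.eq⟩ }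
      have hH'H : H' ≤ H := fun h hh => hh.1
      have hZH' : Z ≤ H' := fun z hz => ⟨hZH hz, hF.comm_Z_right hxF hz, hF.comm_Z_right hyF hz⟩
      have hxx : ⁅x, x⁆ = 1 := commutatorElement_eq_one_iff_mul_comm.2 rfl
      have hyy : ⁅y, y⁆ = 1 := commutatorElement_eq_one_iff_mul_comm.2 rfl
      have hsplitH : ∀ h ∈ H, ∃ i k : ℕ, ∃ h' ∈ H', h = x ^ i * y ^ k * h' := by
        intro h hh
        have hroot : ∀ u v : (AddMonoid.End V)ˣ, u ∈ F → v ∈ F → u ^ q ∈ Z →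
            orderOf ⁅u, v⁆ = q → ∃ k : ℕ, ⁅u, h⁆ = ⁅u, v⁆ ^ k := by
          intro u v hu hv huq hord
          haveI : NeZero q := ⟨hq.ne_zero⟩
          have hp : IsPrimitiveRoot (hS.toK ⟨_, hF.comm_mem u hu v hv⟩) q := by
            have h1 := orderOf_injective hS.toK hS.toK_injective ⟨_, hF.comm_mem u hu v hv⟩
            rw [← Subgroup.orderOf_coe, Subgroup.coe_mk, hord] at h1
            exact h1 ▸ IsPrimitiveRoot.orderOf _
          obtain ⟨k, -, hk⟩ := hp.eq_pow_of_pow_eq_one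
            (ξ := hS.toK ⟨_, hF.comm_mem u hu h (hHF hh)⟩) (by
              rw [← map_pow, ← map_one hS.toK]
              exact congrArg _ (Subtype.ext (hF.comm_pow_eq_one hu (hHF hh) huq)))
          refine ⟨k, ?_⟩
          have e := hS.toK_injective (hk.symm.trans (map_pow hS.toK _ k).symm)
          exact congrArg Subtype.val e
        obtain ⟨k, hk⟩ := hroot x y hxF hyF hxqZ hζord
        obtain ⟨i, hi⟩ := hroot y x hyF hxF hyqZ (by rw [← commutatorElement_inv, orderOf_inv, hζord])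
        have hw : x ^ i * y ^ k ∈ H := H.mul_mem (H.pow_mem hxH i) (H.pow_mem hyH k)
        have hh' : (x ^ i * y ^ k)⁻¹ * h ∈ H := H.mul_mem (H.inv_mem hw) hh
        have hxi : ⁅x, x ^ i * y ^ k⁆ = ⁅x, y⁆ ^ k := by
          rw [hF.comm_mul_right hxF (F.pow_mem hxF i) (F.pow_mem hyF k),
            hF.comm_pow_right hxF hxF, hF.comm_pow_right hxF hyF, hxx, one_pow, one_mul]
        have hyi : ⁅y, x ^ i * y ^ k⁆ = ⁅y, x⁆ ^ i := by
          rw [hF.comm_mul_right hyF (F.pow_mem hxF i) (F.pow_mem hyF k),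
            hF.comm_pow_right hyF hxF, hF.comm_pow_right hyF hyF, hyy, one_pow, mul_one]
        refine ⟨i, k, (x ^ i * y ^ k)⁻¹ * h, ⟨hh', ?_, ?_⟩, by rw [mul_inv_cancel_left]⟩
        · have e := hF.comm_mul_right hxF (hHF hw) (hHF hh')
          rw [mul_inv_cancel_left, hk, hxi] at e
          exact left_eq_mul.1 e
        · have e := hF.comm_mul_right hyF (hHF hw) (hHF hh')
          rw [mul_inv_cancel_left, hi, hyi] at e
          exact left_eq_mul.1 e
      have hcen' : ∀ u ∈ H', (∀ v ∈ H', ⁅u, v⁆ = 1) → u ∈ Z := by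
        intro u hu huc
        refine hcen u hu.1 fun v hv => ?_
        obtain ⟨i, k, v', hv', rfl⟩ := hsplitH v hv
        have hux : ⁅u, x⁆ = 1 := by rw [← commutatorElement_inv, hu.2.1, inv_one]
        have huy : ⁅u, y⁆ = 1 := by rw [← commutatorElement_inv, hu.2.2, inv_one]
        have huF := hHF hu.1
        rw [hF.comm_mul_right huF (F.mul_mem (F.pow_mem hxF i) (F.pow_mem hyF k)) (hHF hv'.1),
          hF.comm_mul_right huF (F.pow_mem hxF i) (F.pow_mem hyF k),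
          hF.comm_pow_right huF hxF, hF.comm_pow_right huF hyF, hux, huy, huc v' hv', one_pow,
          one_pow, one_mul, one_mul]
      have hlt : Nat.card H' < Nat.card H := by
        refine Nat.lt_of_le_of_ne (Nat.card_le_card_of_injective _
          (Subgroup.inclusion_injective hH'H)) fun he => ?_
        have heq : H' = H := Subgroup.eq_of_le_of_card_ge hH'H he.ge
        exact hxy ((heq.symm ▸ hyH : y ∈ H').2.1)
      obtain ⟨A, B, R, hfr⟩ := ih H' (by omega) hZH' (hH'H.trans hHF) hcen'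
      have comm_of : ∀ u v : (AddMonoid.End V)ˣ, ⁅u, v⁆ = 1 → u * v = v * u := fun u v h =>
        commutatorElement_eq_one_iff_mul_comm.1 h
      obtain ⟨A', hA'⟩ := exists_adjoin (A := A) hq.pos hxq
        (fun a ha => (comm_of x a (hfr.A_le ha).2.1).symm)
      obtain ⟨B', hB'⟩ := exists_adjoin (A := B) hq.pos hyq
        (fun b hb => (comm_of y b (hfr.B_le hb).2.2).symm)
      have haF : ∀ a ∈ A, a ∈ F := fun a ha => hHF (hfr.A_le ha).1
      have hbF : ∀ b ∈ B, b ∈ F := fun b hb => hHF (hfr.B_le hb).1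
      have hrF : ∀ r ∈ R, r ∈ F := fun r hr => hHF (hfr.R_le hr).1
      have hxpy : ∀ i j : ℕ, ⁅x ^ i, y ^ j⁆ = ⁅x, y⁆ ^ (i * j) := fun i j => by
        rw [hF.comm_pow_left hxF (F.pow_mem hyF j), hF.comm_pow_right hxF hyF, ← pow_mul,
          mul_comm]
      -- commutators of the new generators with the old subgroups
      have hx1 : ∀ h ∈ H', ∀ i : ℕ, ⁅x ^ i, h⁆ = 1 := fun h hh i => by
        rw [hF.comm_pow_left hxF (hHF hh.1), hh.2.1, one_pow]
      have hy1 : ∀ h ∈ H', ∀ i : ℕ, ⁅y ^ i, h⁆ = 1 := fun h hh i => by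
        rw [hF.comm_pow_left hyF (hHF hh.1), hh.2.2, one_pow]
      have hx2 : ∀ h ∈ H', ∀ i : ℕ, ⁅h, x ^ i⁆ = 1 := fun h hh i => by
        rw [← commutatorElement_inv, hx1 h hh i, inv_one]
      have hy2 : ∀ h ∈ H', ∀ i : ℕ, ⁅h, y ^ i⁆ = 1 := fun h hh i => by
        rw [← commutatorElement_inv, hy1 h hh i, inv_one]
      have hab : ∀ a ∈ A, ∀ b ∈ B, ∀ i j : ℕ,
          ⁅a * x ^ i, b * y ^ j⁆ = ⁅a, b⁆ * ⁅x, y⁆ ^ (i * j) := by
        intro a ha b hb i j
        rw [hF.comm_mul_left (haF a ha) (F.pow_mem hxF i) (F.mul_mem (hbF b hb) (F.pow_mem hyF j)),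
          hF.comm_mul_right (haF a ha) (hbF b hb) (F.pow_mem hyF j),
          hF.comm_mul_right (F.pow_mem hxF i) (hbF b hb) (F.pow_mem hyF j),
          hy2 a (hfr.A_le ha) j, hx1 b (hfr.B_le hb) i, hxpy, mul_one, one_mul]
      refine ⟨A', B', R,
        { A_le := ?_, B_le := ?_, R_le := fun r hr => (hfr.R_le hr).1, Z_le := hfr.Z_le,
          A_comm := ?_, B_comm := ?_, AR := ?_, BR := ?_, A_nd := ?_, B_nd := ?_,
          decomp := ?_, aniso := hfr.aniso, shape := hfr.shape }⟩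
      · intro g hg
        obtain ⟨a, ha, i, rfl⟩ := (hA' g).1 hg
        exact H.mul_mem (hfr.A_le ha).1 (H.pow_mem hxH i)
      · intro g hg
        obtain ⟨b, hb, i, rfl⟩ := (hB' g).1 hg
        exact H.mul_mem (hfr.B_le hb).1 (H.pow_mem hyH i)
      · intro g hg g' hg'
        obtain ⟨a, ha, i, rfl⟩ := (hA' g).1 hg
        obtain ⟨a', ha', i', rfl⟩ := (hA' g').1 hg'
        rw [hF.comm_mul_left (haF a ha) (F.pow_mem hxF i) (F.mul_mem (haF a' ha') (F.pow_mem hxF i')),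
          hF.comm_mul_right (haF a ha) (haF a' ha') (F.pow_mem hxF i'),
          hF.comm_mul_right (F.pow_mem hxF i) (haF a' ha') (F.pow_mem hxF i'),
          hfr.A_comm a ha a' ha', hx2 a (hfr.A_le ha), hx1 a' (hfr.A_le ha'),
          commutatorElement_eq_one_iff_mul_comm.2 ((Commute.refl x).pow_pow i i').eq, one_mul,
          one_mul]
      · intro g hg g' hg'
        obtain ⟨b, hb, i, rfl⟩ := (hB' g).1 hg
        obtain ⟨b', hb', i', rfl⟩ := (hB' g').1 hg'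
        rw [hF.comm_mul_left (hbF b hb) (F.pow_mem hyF i) (F.mul_mem (hbF b' hb') (F.pow_mem hyF i')),
          hF.comm_mul_right (hbF b hb) (hbF b' hb') (F.pow_mem hyF i'),
          hF.comm_mul_right (F.pow_mem hyF i) (hbF b' hb') (F.pow_mem hyF i'),
          hfr.B_comm b hb b' hb', hy2 b (hfr.B_le hb), hy1 b' (hfr.B_le hb'),
          commutatorElement_eq_one_iff_mul_comm.2 ((Commute.refl y).pow_pow i i').eq, one_mul,
          one_mul]
      · intro g hg r hr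
        obtain ⟨a, ha, i, rfl⟩ := (hA' g).1 hg
        rw [hF.comm_mul_left (haF a ha) (F.pow_mem hxF i) (hrF r hr), hfr.AR a ha r hr,
          hx1 r (hfr.R_le hr), one_mul]
      · intro g hg r hr
        obtain ⟨b, hb, i, rfl⟩ := (hB' g).1 hg
        rw [hF.comm_mul_left (hbF b hb) (F.pow_mem hyF i) (hrF r hr), hfr.BR b hb r hr,
          hy1 r (hfr.R_le hr), one_mul]
      · intro g hg hc
        obtain ⟨a, ha, i, rfl⟩ := (hA' g).1 hg
        have h1 : a = 1 := hfr.A_nd a ha fun b hb => by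
          have := hc (b * y ^ 0) ((hB' _).2 ⟨b, hb, 0, rfl⟩)
          rwa [hab a ha b hb, Nat.mul_zero, pow_zero, mul_one] at this
        subst h1
        have h2 := hc (1 * y ^ 1) ((hB' _).2 ⟨1, B.one_mem, 1, rfl⟩)
        rw [hab 1 A.one_mem 1 B.one_mem, mul_one, commutatorElement_one_left, one_mul] at h2
        obtain ⟨t, rfl⟩ : q ∣ i := hζord ▸ orderOf_dvd_of_pow_eq_one h2
        rw [one_mul, pow_mul, hxq, one_pow]
      · intro g hg hc
        obtain ⟨b, hb, i, rfl⟩ := (hB' g).1 hg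
        have h1 : b = 1 := hfr.B_nd b hb fun a ha => by
          have := hc (a * x ^ 0) ((hA' _).2 ⟨a, ha, 0, rfl⟩)
          rwa [hab a ha b hb, Nat.zero_mul, pow_zero, mul_one] at this
        subst h1
        have h2 := hc (1 * x ^ 1) ((hA' _).2 ⟨1, A.one_mem, 1, rfl⟩)
        rw [hab 1 A.one_mem 1 B.one_mem, one_mul (a := i), commutatorElement_one_left, one_mul] at h2
        obtain ⟨t, rfl⟩ : q ∣ i := hζord ▸ orderOf_dvd_of_pow_eq_one h2
        rw [one_mul, pow_mul, hyq, one_pow]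
      · intro h hh
        obtain ⟨i, k, h', hh', rfl⟩ := hsplitH h hh
        obtain ⟨a, ha, b, hb, r, hr, rfl⟩ := hfr.decomp h' hh'
        refine ⟨a * x ^ i, (hA' _).2 ⟨a, ha, i, rfl⟩, b * y ^ k, (hB' _).2 ⟨b, hb, k, rfl⟩, r, hr, ?_⟩
        have c1 : y ^ k * a = a * y ^ k := comm_of _ _ (hy1 a (hfr.A_le ha) k)
        have c2 : x ^ i * a = a * x ^ i := comm_of _ _ (hx1 a (hfr.A_le ha) i)
        have c3 : y ^ k * b = b * y ^ k := comm_of _ _ (hy1 b (hfr.B_le hb) k)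
        calc x ^ i * y ^ k * (a * b * r) = x ^ i * (y ^ k * a) * b * r := by simp only [mul_assoc]
          _ = x ^ i * a * (y ^ k * b) * r := by rw [c1]; simp only [mul_assoc]
          _ = a * x ^ i * (b * y ^ k) * r := by rw [c2, c3]
    · push Not at hsplit
      -- no split element: `H` is anisotropic
      have hnoroot : ∀ x ∈ H, x ∉ Z → ∀ q : ℕ, q.Prime → ∀ z ∈ Z, z ^ q ≠ x ^ q := by
        intro x hx hxZ q hq z hz e
        refine hsplit q hq (z⁻¹ * x) (H.mul_mem (hZH (Z.inv_mem hz)) hx)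
          (fun h => hxZ (by have := Z.mul_mem hz h; rwa [mul_inv_cancel_left] at this)) ?_
        rw [Commute.mul_pow (hF.cent x (hHF hx) _ (Z.inv_mem hz)).symm, inv_pow, e, inv_mul_cancel]
      have hsqZ : ∀ h ∈ H, h ^ 2 ∈ Z := by
        intro h hh
        by_contra hne
        classical
        obtain ⟨n, hn, hmin⟩ : ∃ n, (0 < n ∧ (h ^ 2) ^ n ∈ Z) ∧
            ∀ k < n, ¬ (0 < k ∧ (h ^ 2) ^ k ∈ Z) := by
          have hex : ∃ n, 0 < n ∧ (h ^ 2) ^ n ∈ Z :=
            ⟨sfExp V, primorial_pos _, hF.pow_mem _ (hHF (H.pow_mem hh 2))⟩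
          exact ⟨Nat.find hex, Nat.find_spec hex, fun k hk => Nat.find_min hex hk⟩
        have hn1 : n ≠ 1 := fun h1 => hne (by simpa [h1] using hn.2)
        have hq := Nat.minFac_prime hn1
        obtain ⟨l, hl⟩ := Nat.minFac_dvd n
        have hl0 : 0 < l := by
          rcases Nat.eq_zero_or_pos l with rfl | h0
          · rw [Nat.mul_zero] at hl; omega
          · exact h0
        have hlt : l < n := by
          rw [hl]
          exact (Nat.lt_mul_iff_one_lt_left hl0).2 hq.one_lt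
        have hx : (h ^ 2) ^ l ∈ H := H.pow_mem (H.pow_mem hh 2) l
        have hxZ : (h ^ 2) ^ l ∉ Z := fun h1 => hmin l hlt ⟨hl0, h1⟩
        have hxq : ((h ^ 2) ^ l) ^ n.minFac ∈ Z := by
          rw [← pow_mul, mul_comm, ← hl]; exact hn.2
        rcases eq_or_ne n.minFac 2 with h2 | h2
        · -- `4 ∤` the exponent
          rw [h2] at hxq
          have hN := hF.pow_mem h (hHF hh)
          have hg : h ^ Nat.gcd (2 * l * 2) (sfExp V) ∈ Z := by
            have : ((h : (AddMonoid.End V)ˣ)) ^ (2 * l * 2) ∈ Z := by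
              rwa [pow_mul, pow_mul]
            have hbz := Nat.gcd_eq_gcd_ab (2 * l * 2) (sfExp V)
            rw [← zpow_natCast, hbz, zpow_add, zpow_mul, zpow_mul, zpow_natCast, zpow_natCast]
            exact Z.mul_mem (Z.zpow_mem this _) (Z.zpow_mem hN _)
          have hd : Nat.gcd (2 * l * 2) (sfExp V) ∣ 2 * l := by
            have hsf : Squarefree (Nat.gcd (2 * l * 2) (sfExp V)) :=
              squarefree_sfExp.squarefree_of_dvd (Nat.gcd_dvd_right _ _)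
            have hdvd : Nat.gcd (2 * l * 2) (sfExp V) ∣ (2 * l) ^ 2 :=
              (Nat.gcd_dvd_left _ _).trans ⟨l, by ring⟩
            exact (hsf.dvd_pow_iff_dvd two_ne_zero).1 hdvd
          obtain ⟨c, hc⟩ := hd
          refine hxZ ?_
          rw [← pow_mul, hc, pow_mul]
          exact Z.pow_mem hg c
        · obtain ⟨z, hz, e⟩ := hF.exists_root hS hC hq (Or.inl h2) (hHF hx) hxq
          exact hnoroot _ hx hxZ _ hq z hz e
      have haniso : ∀ r ∈ H, r ∉ Z → r ^ 2 ∈ Z ∧ ∀ z ∈ Z, z ^ 2 ≠ r ^ 2 := fun r hr hrZ =>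
        ⟨hsqZ r hr, hnoroot r hr hrZ 2 Nat.prime_two⟩
      refine ⟨⊥, ⊥, H,
        { A_le := bot_le, B_le := bot_le, R_le := le_rfl, Z_le := hZH,
          A_comm := fun a ha a' _ => by rw [Subgroup.mem_bot.1 ha]; exact commutatorElement_one_left _
          B_comm := fun a ha a' _ => by rw [Subgroup.mem_bot.1 ha]; exact commutatorElement_one_left _
          AR := fun a ha a' _ => by rw [Subgroup.mem_bot.1 ha]; exact commutatorElement_one_left _
          BR := fun a ha a' _ => by rw [Subgroup.mem_bot.1 ha]; exact commutatorElement_one_left _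
          A_nd := fun a ha _ => Subgroup.mem_bot.1 ha
          B_nd := fun a ha _ => Subgroup.mem_bot.1 ha
          decomp := fun h hh => ⟨1, Subgroup.one_mem _, 1, Subgroup.one_mem _, h, hh, by simp⟩
          aniso := haniso, shape := ?_ }⟩
      by_cases hHZ : H ≤ Z
      · exact Or.inl (le_antisymm hHZ hZH)
      right
      obtain ⟨h0, hh0, hh0Z⟩ := SetLike.not_le_iff_exists.1 hHZ
      have hns : ∀ w ∈ Z, w ^ 2 ≠ (-1 : (AddMonoid.End V)ˣ) := by
        intro w hw e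
        obtain ⟨z, hz, ez⟩ := hF.exists_root hS hC Nat.prime_two (Or.inr ⟨w, hw, e⟩) (hHF hh0)
          (hsqZ h0 hh0)
        exact hnoroot h0 hh0 hh0Z 2 Nat.prime_two z hz ez
      have hscale : ∀ h ∈ H, h ∉ Z → ∃ w ∈ Z, (w * h) ^ 2 = -1 := by
        intro h hh hhZ
        obtain ⟨k, w, hw, ek⟩ := hS.exists_zpow_of_not_pow Nat.prime_two (hsqZ h hh)
          hS.neg_one_mem (haniso h hh hhZ).2
        rcases Nat.even_or_odd k with ⟨l, rfl⟩ | ⟨l, rfl⟩
        · refine absurd ?_ (hns ((h ^ 2) ^ l * w) (Z.mul_mem (Z.pow_mem (hsqZ h hh) l) hw))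
          rw [Commute.mul_pow (hS.comm _ (Z.pow_mem (hsqZ h hh) l) _ hw), ← pow_mul, mul_two]
          exact ek
        · refine ⟨(h ^ 2) ^ l * w, Z.mul_mem (Z.pow_mem (hsqZ h hh) l) hw, ?_⟩
          rw [Commute.mul_pow (hF.cent h (hHF hh) _ (Z.mul_mem (Z.pow_mem (hsqZ h hh) l) hw)).symm,
            Commute.mul_pow (hS.comm _ (Z.pow_mem (hsqZ h hh) l) _ hw), ← ek]
          rw [pow_succ ((h ^ 2)) (2 * l), mul_assoc _ (w ^ 2), hF.cent _ (F.pow_mem (hHF hh) 2) _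
            (Z.pow_mem hw 2) |>.symm, ← mul_assoc, ← pow_mul]
          rw [mul_comm l 2]
      obtain ⟨w1, hw1, e1⟩ := hscale h0 hh0 hh0Z
      have hα : w1 * h0 ∈ H := H.mul_mem (hZH hw1) hh0
      have hαF := hHF hα
      have hαZ : w1 * h0 ∉ Z := fun h => hh0Z (by
        have := Z.mul_mem (Z.inv_mem hw1) h; rwa [inv_mul_cancel_left] at this)
      obtain ⟨g, hg, hgc⟩ : ∃ g ∈ H, ⁅w1 * h0, g⁆ ≠ 1 := by
        by_contra hne
        push Not at hne
        exact hαZ (hcen _ hα hne)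
      have hgZ : g ∉ Z := fun h => hgc (hF.comm_Z_right hαF h)
      obtain ⟨w2, hw2, e2⟩ := hscale g hg hgZ
      have hβ : w2 * g ∈ H := H.mul_mem (hZH hw2) hg
      have hβF := hHF hβ
      have hcomm : ∀ u ∈ H, ∀ v ∈ H, ⁅u, v⁆ ≠ 1 → ⁅u, v⁆ = -1 := fun u hu v hv hne =>
        hneg _ (hF.comm_mem u (hHF hu) v (hHF hv))
          (hF.comm_pow_eq_one (hHF hu) (hHF hv) (hsqZ u hu)) hne
      have hc : ⁅w1 * h0, w2 * g⁆ = -1 := hcomm _ hα _ hβ (by
        rwa [hF.comm_mul_right hαF (hF.Z_le hw2) (hHF hg), hF.comm_Z_right hαF hw2, one_mul])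
      refine ⟨w1 * h0, hα, w2 * g, hβ, e1, e2, ?_, fun r hr => ?_⟩
      · rw [← neg_one_mul, ← hc, commutatorElement_def]
        group
      · generalize hαdef : w1 * h0 = α at hα hαF hαZ hc e1
        generalize hβdef : w2 * g = β at hβ hβF hc e2
        have hc' : ⁅β, α⁆ = -1 := by rw [← commutatorElement_inv, hc, inv_neg_one]
        have hαα : ⁅α, α⁆ = 1 := commutatorElement_eq_one_iff_mul_comm.2 rfl
        have hββ : ⁅β, β⁆ = 1 := commutatorElement_eq_one_iff_mul_comm.2 rfl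
        obtain ⟨k, hk⟩ : ∃ k : ℕ, ⁅α, r⁆ = (-1) ^ k := by
          by_cases h : ⁅α, r⁆ = 1
          · exact ⟨0, h⟩
          · exact ⟨1, by rw [pow_one]; exact hcomm _ hα r hr h⟩
        obtain ⟨i, hi⟩ : ∃ i : ℕ, ⁅β, r⁆ = (-1) ^ i := by
          by_cases h : ⁅β, r⁆ = 1
          · exact ⟨0, h⟩
          · exact ⟨1, by rw [pow_one]; exact hcomm _ hβ r hr h⟩
        have hw : α ^ i * β ^ k ∈ H := H.mul_mem (H.pow_mem hα i) (H.pow_mem hβ k)
        have hr' : (α ^ i * β ^ k)⁻¹ * r ∈ H := H.mul_mem (H.inv_mem hw) hr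
        generalize hr'def : (α ^ i * β ^ k)⁻¹ * r = r' at hr'
        have hrr : r = α ^ i * β ^ k * r' := by rw [← hr'def, mul_inv_cancel_left]
        have hαr : ⁅α, r'⁆ = 1 := by
          rw [hrr, hF.comm_mul_right hαF (hHF hw) (hHF hr'),
            hF.comm_mul_right hαF (F.pow_mem hαF i) (F.pow_mem hβF k),
            hF.comm_pow_right hαF hαF, hF.comm_pow_right hαF hβF, hαα, hc, one_pow, one_mul] at hk
          exact mul_eq_left.1 hk
        have hβr : ⁅β, r'⁆ = 1 := by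
          rw [hrr, hF.comm_mul_right hβF (hHF hw) (hHF hr'),
            hF.comm_mul_right hβF (F.pow_mem hαF i) (F.pow_mem hβF k),
            hF.comm_pow_right hβF hαF, hF.comm_pow_right hβF hβF, hββ, hc', one_pow, mul_one] at hi
          exact mul_eq_left.1 hi
        have hr'Z : r' ∈ Z := by
          by_contra hn'
          obtain ⟨w3, hw3, e3⟩ := hscale r' hr' hn'
          have hγ : w3 * r' ∈ H := H.mul_mem (hZH hw3) hr'
          have hcγ : α * (w3 * r') = w3 * r' * α := commutatorElement_eq_one_iff_mul_comm.1 (by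
            rw [hF.comm_mul_right hαF (hF.Z_le hw3) (hHF hr'), hF.comm_Z_right hαF hw3, hαr,
              one_mul])
          have hsq : (α * (w3 * r')) ^ 2 = 1 := by
            rw [Commute.mul_pow hcγ, e1, e3, neg_mul_neg, one_mul]
          have hin : α * (w3 * r') ∈ Z := by
            by_contra h
            exact (haniso _ (H.mul_mem hα hγ) h).2 1 Z.one_mem (by rw [hsq, one_pow])
          have : ⁅β, α * (w3 * r')⁆ = 1 := hF.comm_Z_right hβF hin
          rw [hF.comm_mul_right hβF hαF (hHF hγ), hc',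
            hF.comm_mul_right hβF (hF.Z_le hw3) (hHF hr'), hF.comm_Z_right hβF hw3, hβr, one_mul,
            mul_one] at this
          exact hns 1 Z.one_mem (by rw [one_pow]; exact this.symm)
        refine ⟨r', hr'Z, i, k, ?_⟩
        rw [hrr, hF.cent _ (hHF hw) r' hr'Z, mul_assoc]

end GoodF

end Cfsg.Agent.Lib.BaseThree
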