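import Cfsg.Agent.Lib.BaseThree.Primitive
import Cfsg.Agent.Lib.BaseThree.Five

/-!
# Solvable completely reducible linear groups have a regular triple (Seress)
-/

set_option autoImplicit false
set_option linter.style.haveILetI false
set_option linter.unusedSectionVars false

namespace Cfsg.Agent.Lib.BaseThree

open scoped commutatorElement Pointwise

/-- Colourings for all solvable permutation groups on at most `n` points. -/
def ColourOK (n : ℕ) : Prop :=
  ∀ (Ω : Type) [Finite Ω], Nat.card Ω ≤ n → ∀ G : Subgroup (Equiv.Perm Ω),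
    Group.IsSolvable G → Colourable G Ω

/-- Triples for all irreducible solvable linear groups on at most `n` vectors. -/
def TripleOK (n : ℕ) : Prop :=
  ∀ (V : Type) [AddCommGroup V] [Finite V], Nat.card V ≤ n →
    ∀ G : Subgroup (AddMonoid.End V)ˣ, Group.IsSolvable G → Irred G → HasTriple G V

theorem colourable_of_action {n : ℕ} (hC : ColourOK n) {S Ω : Type} [Group S] [Group.IsSolvable S]
    [MulAction S Ω] [Finite Ω] (hn : Nat.card Ω ≤ n) : Colourable S Ω := by
  obtain ⟨c, hc⟩ := hC Ω hn (MulAction.toPermHom S Ω).range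
    (Group.isSolvable_of_surjective (MulAction.toPermHom S Ω).rangeRestrict_surjective)
  exact ⟨c, fun g hg x => hc ⟨_, g, rfl⟩ hg x⟩

theorem exists_addEquiv_fun {L : Type} [AddCommGroup L] [Finite L] (q : ℕ) [Fact q.Prime]
    [Module (ZMod q) L] : ∃ m, Nonempty (L ≃+ (Fin m → ZMod q)) :=
  haveI : Module.Finite (ZMod q) L := Module.Finite.of_finite
  ⟨_, ⟨(Module.finBasis (ZMod q) L).equivFun.toAddEquiv⟩⟩

/-- Three colours on an elementary abelian group of exponent two or three. -/
theorem exists_colour_three_group {L : Type} [CommGroup L] [Finite L] {q : ℕ}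
    [hq : Fact q.Prime] (hq3 : q = 2 ∨ q = 3) (hexp : ∀ x : L, x ^ q = 1) {S : Type} [Group S]
    [Group.IsSolvable S] (σ : S →* Equiv.Perm L) (hmul : ∀ g a b, σ g (a * b) = σ g a * σ g b) :
    ∃ c : L → Fin 3, ∀ g : S, (∀ x, x ≠ 1 → c (σ g x) = c x) → ∀ x, σ g x = x := by
  have hzero : ∀ x : Additive L, q • x = 0 := fun x => by
    apply Additive.toMul.injective
    rw [toMul_nsmul, toMul_zero]
    exact hexp _
  obtain ⟨m, ⟨e⟩⟩ :=
    @exists_addEquiv_fun (Additive L) _ _ q _ (AddCommGroup.zmodModule hzero)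
  let φ : L ≃ (Fin m → ZMod q) := Additive.ofMul.trans e.toEquiv
  have hφ : ∀ a b : L, φ (a * b) = φ a + φ b := fun a b =>
    e.map_add (Additive.ofMul a) (Additive.ofMul b)
  have hφs : ∀ x y, φ.symm (x + y) = φ.symm x * φ.symm y := fun x y =>
    φ.injective (by rw [hφ, Equiv.apply_symm_apply, Equiv.apply_symm_apply, Equiv.apply_symm_apply])
  let τ : S →* Equiv.Perm (Fin m → ZMod q) :=
    φ.permCongrHom.toMonoidHom.comp σ
  have hτ : ∀ (s : S) x, τ s x = φ (σ s (φ.symm x)) := fun s x => rfl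
  obtain ⟨c, hc⟩ := exists_colour_three hq3 τ fun s x y => by
    rw [hτ, hτ, hτ, hφs, hmul, hφ]
  refine ⟨fun a => c (φ a), fun s hs a => ?_⟩
  have h := hc s (fun x hx => ?_) (φ a)
  · rw [hτ, Equiv.symm_apply_apply] at h
    exact φ.injective h
  · have h1 : φ.symm x ≠ 1 := fun h => hx (by
      have h2 : φ 1 = 0 := by simpa using hφ 1 1
      rw [← φ.apply_symm_apply x, h, h2])
    have h3 : c (φ (σ s (φ.symm x))) = c (φ (φ.symm x)) := hs _ h1
    rw [Equiv.apply_symm_apply] at h3
    rw [hτ]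
    exact h3

/-- Colouring of the abelian complement. -/
theorem exists_colour_B {V : Type} [AddCommGroup V] [Finite V] [Nontrivial V]
    {G Z : Subgroup (AddMonoid.End V)ˣ} {K : Subring (AddMonoid.End V)} (hGs : Group.IsSolvable G)
    (hS : FieldSetup G Z K) {F A B R : Subgroup (AddMonoid.End V)ˣ} (hF : GoodF G Z F)
    (hfr : IsFrame Z F A B R)
    (hC5 : ∀ {S Ω : Type} [Group S] [Group.IsSolvable S] [MulAction S Ω] [Finite Ω],
      Nat.card Ω < Nat.card V → Colourable S Ω)
    (hlt : Nat.card B < Nat.card V) :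
    ∃ f : B → K, ∀ g ∈ G, ∀ hg : ∀ b ∈ B, g * b * g⁻¹ ∈ B,
      (∀ b : B, b ≠ 1 → f ⟨g * b * g⁻¹, hg b b.2⟩ = f b) → ∀ b ∈ B, g * b * g⁻¹ = b := by
  classical
  haveI := hGs
  let S : Subgroup (AddMonoid.End V)ˣ := G ⊓ Subgroup.normalizer (B : Set (AddMonoid.End V)ˣ)
  haveI : Group.IsSolvable S :=
    Group.isSolvable_of_isSolvable_injective (Subgroup.inclusion_injective (inf_le_left : S ≤ G))
  have hSB : ∀ s : S, ∀ b ∈ B, (s : (AddMonoid.End V)ˣ) * b * (s : (AddMonoid.End V)ˣ)⁻¹ ∈ B :=
    fun s b hb => (Subgroup.mem_normalizer_iff.1 s.2.2 b).1 hb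
  letI : MulAction S B :=
    { smul := fun s b => ⟨_, hSB s b b.2⟩
      one_smul := fun b => Subtype.ext (by
        show (1 : (AddMonoid.End V)ˣ) * b * (1 : (AddMonoid.End V)ˣ)⁻¹ = b
        group)
      mul_smul := fun s t b => Subtype.ext (by
        show ((s : (AddMonoid.End V)ˣ) * t) * b * ((s : (AddMonoid.End V)ˣ) * t)⁻¹ =
          (s : (AddMonoid.End V)ˣ) * ((t : (AddMonoid.End V)ˣ) * b * (t : (AddMonoid.End V)ˣ)⁻¹) *
            (s : (AddMonoid.End V)ˣ)⁻¹
        group) }
  -- an element of `G` normalising `B` gives an element of `S`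
  have hmem : ∀ g ∈ G, (∀ b ∈ B, g * b * g⁻¹ ∈ B) → g ∈ S := fun g hg hgB => by
    refine ⟨hg, Subgroup.mem_normalizer_iff.2 fun b => ⟨hgB b, fun h => ?_⟩⟩
    obtain ⟨⟨c, hc⟩, hc'⟩ := (Finite.injective_iff_bijective
      (f := fun b : B => (⟨g * b * g⁻¹, hgB b b.2⟩ : B))).1
      (fun b c h => Subtype.ext (mul_left_cancel (mul_right_cancel (congrArg Subtype.val h)))) |>.2
      ⟨g * b * g⁻¹, h⟩
    have : c = b := mul_left_cancel (mul_right_cancel (congrArg Subtype.val hc'))
    exact this ▸ hc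
  -- reduce to a colouring
  suffices hcol : ∃ c : B → K, ∀ s : S, (∀ b : B, b ≠ 1 → c (s • b) = c b) → ∀ b : B, s • b = b by
    obtain ⟨c, hc⟩ := hcol
    exact ⟨c, fun g hg hgB h b hb =>
      congrArg Subtype.val (hc ⟨g, hmem g hg hgB⟩ h ⟨b, hb⟩)⟩
  have hKcard : Nat.card K = Nat.card Z + 1 := by
    have e : Option Z ≃ K := Equiv.ofBijective
      (fun o => o.elim 0 hS.toK) ⟨by
        rintro (_ | a) (_ | b) h
        · rfl
        · exact absurd (congrArg Subtype.val h).symm (by
            haveI : Nontrivial (AddMonoid.End V) := ⟨⟨0, 1, fun h => by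
              obtain ⟨v, hv⟩ := exists_ne (0 : V)
              exact hv (DFunLike.congr_fun h.symm v)⟩⟩
            exact (b : (AddMonoid.End V)ˣ).ne_zero)
        · exact absurd (congrArg Subtype.val h) (by
            haveI : Nontrivial (AddMonoid.End V) := ⟨⟨0, 1, fun h => by
              obtain ⟨v, hv⟩ := exists_ne (0 : V)
              exact hv (DFunLike.congr_fun h.symm v)⟩⟩
            exact (a : (AddMonoid.End V)ˣ).ne_zero)
        · exact congrArg some (hS.toK_injective h), fun k => by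
        rcases (hS.mem_iff k.1).1 k.2 with h | ⟨z, hz, h⟩
        · exact ⟨none, Subtype.ext h.symm⟩
        · exact ⟨some ⟨z, hz⟩, Subtype.ext h⟩⟩
    rw [← Nat.card_congr e, Finite.card_option]
  cases nonempty_fintype K
  rcases Nat.lt_or_ge (Nat.card K) 5 with hK | hK
  · -- orders of elements of `B` divide `card Z`
    have hexp : ∀ b ∈ B, b ^ Nat.card Z = 1 := by
      intro b hb
      have hbF := hfr.B_le hb
      have hN : b ^ sfExp V = 1 := hfr.B_nd _ (B.pow_mem hb _) fun a ha =>
        hF.comm_Z_right (hfr.A_le ha) (hF.pow_mem b hbF)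
      refine orderOf_dvd_iff_pow_eq_one.1 ?_
      have hsf : Squarefree (orderOf b) :=
        squarefree_sfExp.squarefree_of_dvd (orderOf_dvd_of_pow_eq_one hN)
      rw [← Nat.prod_primeFactors_of_squarefree hsf]
      refine (Finset.prod_dvd_prod_of_subset _ _ _ fun r hr => ?_).trans
        (Nat.prod_primeFactors_dvd (Nat.card Z))
      obtain ⟨hrp, hrd, h0⟩ := Nat.mem_primeFactors.1 hr
      refine Nat.mem_primeFactors.2 ⟨hrp, ?_, Nat.card_pos.ne'⟩
      obtain ⟨k, hk⟩ := hrd
      have hy : b ^ k ≠ 1 := fun h => by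
        have h1 := orderOf_dvd_of_pow_eq_one h
        rw [hk] at h1
        have hk0 : k ≠ 0 := fun h => h0 (by rw [hk, h, mul_zero])
        have := Nat.le_of_dvd (Nat.pos_of_ne_zero hk0) h1
        have := hrp.two_le
        nlinarith [Nat.pos_of_ne_zero hk0]
      obtain ⟨a, ha, hay⟩ : ∃ a ∈ A, ⁅a, b ^ k⁆ ≠ 1 := by
        by_contra hne
        push Not at hne
        exact hy (hfr.B_nd _ (B.pow_mem hb k) hne)
      have hord : orderOf ⁅a, b ^ k⁆ = r := by
        haveI := Fact.mk hrp
        refine orderOf_eq_prime ?_ hay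
        rw [← hF.comm_pow_right (hfr.A_le ha) (F.pow_mem hbF k), ← pow_mul, mul_comm, ← hk,
          pow_orderOf_eq_one, commutatorElement_one_right]
      rw [← hord, ← Subgroup.orderOf_mk _ (hF.comm_mem a (hfr.A_le ha) _ (F.pow_mem hbF k))]
      exact orderOf_dvd_natCard _
    rcases (show Nat.card Z = 1 ∨ Nat.card Z = 2 ∨ Nat.card Z = 3 by
      have := Nat.card_pos (α := Z); omega) with h1 | h23
    · refine ⟨fun _ => 0, fun s _ b => ?_⟩
      have hb : ∀ b : B, b = 1 := fun b => Subtype.ext (by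
        have := hexp b b.2
        rwa [h1, pow_one] at this)
      rw [hb b, hb (s • 1)]
    · generalize hq : Nat.card Z = q at h23 hexp hKcard
      haveI hqp : Fact q.Prime := ⟨by
        rcases h23 with rfl | rfl
        exacts [Nat.prime_two, Nat.prime_three]⟩
      obtain ⟨ι⟩ : Nonempty (Fin 3 ↪ K) := Function.Embedding.nonempty_of_card_le (by
        rw [Fintype.card_fin, ← Nat.card_eq_fintype_card, hKcard]
        rcases h23 with rfl | rfl <;> omega)
      letI : CommGroup B :=
        { (inferInstance : Group B) with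
          mul_comm := fun a b => Subtype.ext
            (commutatorElement_eq_one_iff_mul_comm.1 (hfr.B_comm a a.2 b b.2)) }
      obtain ⟨c, hc⟩ := exists_colour_three_group h23
        (fun b : B => Subtype.ext (by rw [SubgroupClass.coe_pow]; exact hexp _ b.2))
        (MulAction.toPermHom S B) fun s a b => Subtype.ext (by
          show (s : (AddMonoid.End V)ˣ) * ((a : (AddMonoid.End V)ˣ) * b) * _ =
            (s : (AddMonoid.End V)ˣ) * a * _ * ((s : (AddMonoid.End V)ˣ) * b * _)
          group)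
      exact ⟨fun b => ι (c b), fun s hs b => hc s (fun a ha => ι.injective (hs a ha)) b⟩
  · obtain ⟨c, hc⟩ := hC5 (S := S) (Ω := B) hlt
    obtain ⟨ι⟩ : Nonempty (Fin 5 ↪ K) := Function.Embedding.nonempty_of_card_le (by
      rwa [Fintype.card_fin, ← Nat.card_eq_fintype_card])
    refine ⟨fun b => ι (c b), fun s hs => hc s fun b => ?_⟩
    by_cases hb : b = 1
    · subst hb
      congr 1
      refine Subtype.ext ?_
      show (s : (AddMonoid.End V)ˣ) * 1 * (s : (AddMonoid.End V)ˣ)⁻¹ = 1
      group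
    · exact ι.injective (hs b hb)

/-- The primitive case. -/
theorem triple_of_primitive {V : Type} [AddCommGroup V] [Finite V] [Nontrivial V]
    {G : Subgroup (AddMonoid.End V)ˣ} (hG : Group.IsSolvable G) (hirr : Irred G)
    (hprim : Primitive G)
    (hC5 : ∀ {S Ω : Type} [Group S] [Group.IsSolvable S] [MulAction S Ω] [Finite Ω],
      Nat.card Ω < Nat.card V → Colourable S Ω) : HasTriple G V := by
  obtain ⟨G', Z, K, hle, hGs, hS⟩ := exists_setup G hG hirr hprim
  obtain ⟨F, hF, hC⟩ := exists_goodF hGs hS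
  obtain ⟨A, B, R, hfr⟩ := hF.exists_frame hS hC (Nat.card F) F le_rfl hF.Z_le le_rfl
    fun x hx h => hC x (hF.le hx) fun f hf => commutatorElement_eq_one_iff_mul_comm.1 (h f hf)
  obtain ⟨v, hv⟩ := exists_triple_of_frame hS hF hC hfr
    (fun hlt => exists_colour_B hGs hS hF hfr hC5 hlt)
  exact ⟨v, fun g h x => hv ⟨g, hle g.2⟩ h x⟩

theorem exists_prime_nsmul_eq_zero {V : Type} [AddCommGroup V] [Finite V] [Nontrivial V]
    {G : Subgroup (AddMonoid.End V)ˣ} (hirr : Irred G) :
    ∃ p : ℕ, p.Prime ∧ ∀ v : V, p • v = 0 := by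
  obtain ⟨p, hp, hdvd⟩ := Nat.exists_prime_and_dvd (Finite.one_lt_card (α := V)).ne'
  haveI := Fact.mk hp
  let U : AddSubgroup V := (nsmulAddMonoidHom p : V →+ V).ker
  rcases hirr U (fun g _ u (hu : p • u = 0) => by
    show p • g • u = 0
    rw [← smul_comm g, hu, smul_zero]) with h | h
  · exfalso
    obtain ⟨x, hx⟩ := exists_prime_addOrderOf_dvd_card' p hdvd
    have : x ∈ U := show p • x = 0 by rw [← hx]; exact addOrderOf_nsmul_eq_zero x
    rw [h, AddSubgroup.mem_bot] at this
    rw [this, addOrderOf_zero] at hx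
    exact hp.one_lt.ne hx
  · exact ⟨p, hp, fun v => (h ▸ AddSubgroup.mem_top v : v ∈ U)⟩

/-- The imprimitive case. -/
theorem triple_of_decomp {V : Type} [AddCommGroup V] [Finite V] [Nontrivial V]
    {G : Subgroup (AddMonoid.End V)ˣ} (hG : Group.IsSolvable G) (hirr : Irred G)
    {E : Finset (AddMonoid.End V)} (hE : IsDecomp G E) {n : ℕ} (hn : Nat.card V ≤ n + 1)
    (hC : ColourOK n) (hT : TripleOK n) : HasTriple G V := by
  classical
  haveI := hG
  letI : MulAction G {e // e ∈ E} :=
    { smul := fun g e => ⟨conjEnd (g : (AddMonoid.End V)ˣ) e.1, hE.conj_mem g g.2 e.1 e.2⟩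
      one_smul := fun e => Subtype.ext (by
        show conjEnd (1 : (AddMonoid.End V)ˣ) e.1 = e.1
        simp [conjEnd])
      mul_smul := fun g h e => Subtype.ext (by
        show conjEnd ((g : (AddMonoid.End V)ˣ) * (h : (AddMonoid.End V)ˣ)) e.1 = conjEnd g.1 (conjEnd h.1 e.1)
        simp [conjEnd, mul_assoc]) }
  have hsm : ∀ (g : G) (e : {e // e ∈ E}) (v : V), (g • e).1 (g • v) = g • e.1 v := fun g e v =>
    conjEnd_apply_smul g.1 e.1 v
  have hsum : ∀ v : V, ∑ e : {e // e ∈ E}, e.1 v = v := fun v => by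
    rw [← end_sum_apply, Finset.sum_coe_sort E (fun e => e), hE.sum_eq]
    rfl
  have horth : ∀ e f : {e // e ∈ E}, e ≠ f → ∀ v : V, e.1 (f.1 v) = 0 := fun e f h v =>
    DFunLike.congr_fun (hE.orth _ e.2 _ f.2 fun h' => h (Subtype.ext h')) v
  have hidem : ∀ (e : {e // e ∈ E}) (v : V), e.1 (e.1 v) = e.1 v := fun e v =>
    DFunLike.congr_fun (hE.idem _ e.2) v
  -- transitivity
  obtain ⟨e0, he0⟩ : E.Nonempty := Finset.card_pos.1 (by have := hE.two_le; omega)
  have htrans : ∀ e : {e // e ∈ E}, ∃ g : G, g • (⟨e0, he0⟩ : {e // e ∈ E}) = e := by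
    intro e
    by_contra hne
    let O := MulAction.orbit G (⟨e0, he0⟩ : {e // e ∈ E})
    let U : AddSubgroup V :=
      { carrier := {v | ∀ f, f ∉ O → f.1 v = 0}
        zero_mem' := fun f _ => map_zero _
        add_mem' := fun {a b} ha hb f hf => by rw [map_add, ha f hf, hb f hf, add_zero]
        neg_mem' := fun {a} ha f hf => by rw [map_neg, ha f hf, neg_zero] }
    rcases hirr U (fun g hg u hu f hf => by
      have h := hsm ⟨g, hg⟩ ((⟨g, hg⟩ : G)⁻¹ • f) u
      rw [smul_inv_smul, hu _ (fun hmem => hf (by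
        have := MulAction.mem_orbit_of_mem_orbit (⟨g, hg⟩ : G) hmem
        rwa [smul_inv_smul] at this)), smul_zero] at h
      exact h) with h | h
    · refine hE.ne_zero e0 he0 (DFunLike.ext _ _ fun v => ?_)
      have : e0 v ∈ U := fun f hf => horth f ⟨e0, he0⟩
        (fun h' => hf (h' ▸ MulAction.mem_orbit_self _)) v
      rwa [h, AddSubgroup.mem_bot] at this
    · refine hE.ne_zero e.1 e.2 (DFunLike.ext _ _ fun v => ?_)
      exact (h ▸ AddSubgroup.mem_top v : v ∈ U) e (fun hmem => hne hmem)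
  -- the first block
  generalize hb0 : (⟨e0, he0⟩ : {e // e ∈ E}) = b0 at htrans
  let W : AddSubgroup V := AddMonoidHom.range b0.1
  let H : Subgroup G := MulAction.stabilizer G b0
  have hHW : ∀ h : H, ∀ w ∈ W, ((h : G) • w) ∈ W := by
    rintro h w ⟨v, rfl⟩
    refine ⟨(h : G) • v, ?_⟩
    have h' : (h : G) • b0 = b0 := h.2
    have := hsm h b0 v
    rwa [h'] at this
  letI : DistribMulAction H W :=
    { smul := fun h w => ⟨(h : G) • (w : V), hHW h w w.2⟩
      one_smul := fun w => Subtype.ext (one_smul G (w : V))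
      mul_smul := fun g h w => Subtype.ext (mul_smul (g : G) (h : G) (w : V))
      smul_zero := fun h => Subtype.ext (smul_zero (h : G))
      smul_add := fun h a b => Subtype.ext (smul_add (h : G) (a : V) (b : V)) }
  let ρ : H →* (AddMonoid.End W)ˣ := MonoidHom.toHomUnits (DistribMulAction.toAddMonoidEnd H W)
  have hρ : ∀ (h : H) (w : W), ρ h • w = h • w := fun h w => rfl
  haveI : Group.IsSolvable H :=
    Group.isSolvable_of_isSolvable_injective (f := H.subtype) H.subtype_injective
  haveI hρs : Group.IsSolvable ρ.range :=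
    Group.isSolvable_of_surjective ρ.rangeRestrict_surjective
  have hnt : ∃ e : {e // e ∈ E}, e ≠ b0 := by
    haveI : Nontrivial {e // e ∈ E} := Fintype.one_lt_card_iff_nontrivial.1 (by
      rw [Fintype.card_coe]; exact hE.two_le)
    exact exists_ne b0
  have hWlt : Nat.card W < Nat.card V := by
    obtain ⟨e, he⟩ := hnt
    cases nonempty_fintype V
    rw [Nat.card_eq_fintype_card, Nat.card_eq_fintype_card]
    refine Fintype.card_lt_of_injective_not_surjective (fun w : W => (w : V)) Subtype.val_injective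
      fun hs => ?_
    refine hE.ne_zero e.1 e.2 (DFunLike.ext _ _ fun v => ?_)
    obtain ⟨⟨_, u, rfl⟩, hu⟩ := hs (e.1 v)
    have hu' : b0.1 u = e.1 v := hu
    have h1 := congrArg (fun x => e.1 x) hu'
    simp only [horth e b0 he u, hidem] at h1
    exact h1.symm
  have hWirr : Irred ρ.range := by
    intro U hU
    let U' : AddSubgroup V :=
      { carrier := {v | ∀ g : G, (⟨b0.1 (g • v), g • v, rfl⟩ : W) ∈ U}
        zero_mem' := fun g => by
          convert U.zero_mem using 1
          exact Subtype.ext (by show b0.1 (g • (0 : V)) = 0; rw [smul_zero, map_zero])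
        add_mem' := fun {a b} ha hb g => by
          convert U.add_mem (ha g) (hb g) using 1
          exact Subtype.ext (by
            show b0.1 (g • (a + b)) = b0.1 (g • a) + b0.1 (g • b); rw [smul_add, map_add])
        neg_mem' := fun {a} ha g => by
          convert U.neg_mem (ha g) using 1
          exact Subtype.ext (by show b0.1 (g • (-a)) = -b0.1 (g • a); rw [smul_neg, map_neg]) }
    rcases hirr U' (fun g hg u hu g' => by
      have := hu (g' * ⟨g, hg⟩)
      simpa [mul_smul] using this) with h | h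
    · left
      refine (AddSubgroup.eq_bot_iff_forall _).2 fun w hw => ?_
      have : (w : V) ∈ U' := by
        intro g
        obtain ⟨x, hx⟩ := w.2
        have hx' : b0.1 x = (w : V) := hx
        by_cases hg : g⁻¹ • b0 = b0
        · have hgH : g ∈ H := by
            show g • b0 = b0
            conv_lhs => rw [← hg]
            rw [smul_inv_smul]
          have h2 := hU _ ⟨⟨g, hgH⟩, rfl⟩ w hw
          rw [hρ] at h2
          convert h2 using 1
          refine Subtype.ext ?_
          show b0.1 (g • (w : V)) = g • (w : V)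
          have h3 := hsm g b0 (w : V)
          rw [show g • b0 = b0 from hgH, ← hx', hidem] at h3
          rw [← hx', h3]
        · convert U.zero_mem using 1
          refine Subtype.ext ?_
          show b0.1 (g • (w : V)) = 0
          have h3 := hsm g (g⁻¹ • b0) (w : V)
          rw [smul_inv_smul, ← hx', horth _ _ hg, smul_zero] at h3
          rw [← hx', h3]
      rw [h, AddSubgroup.mem_bot] at this
      exact Subtype.ext this
    · right
      refine (AddSubgroup.eq_top_iff' _).2 fun w => ?_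
      obtain ⟨x, hx⟩ := w.2
      have := (h ▸ AddSubgroup.mem_top x : x ∈ U') 1
      convert this using 1
      exact Subtype.ext (by show (w : V) = b0.1 ((1 : G) • x); rw [one_smul]; exact hx.symm)
  haveI : Nontrivial W := by
    obtain ⟨v, hv⟩ : ∃ v, b0.1 v ≠ 0 := by
      by_contra hne
      push Not at hne
      exact hE.ne_zero _ b0.2 (DFunLike.ext _ _ hne)
    exact ⟨⟨⟨b0.1 v, v, rfl⟩, 0, fun h => hv (congrArg Subtype.val h)⟩⟩
  obtain ⟨p, hp, hpV⟩ := exists_prime_nsmul_eq_zero hirr
  haveI := Fact.mk hp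
  letI : Module (ZMod p) W := AddCommGroup.zmodModule fun w => Subtype.ext (hpV w)
  obtain ⟨t, ht⟩ := exists_five_triples (G := ρ.range) p (hT W (by omega) ρ.range hρs hWirr)
  -- colour the blocks
  have hcardE : Nat.card {e // e ∈ E} < Nat.card V := by
    have hch : ∀ e : {e // e ∈ E}, ∃ v, e.1 v ≠ 0 := fun e => by
      by_contra hne
      push Not at hne
      exact hE.ne_zero _ e.2 (DFunLike.ext _ _ hne)
    choose v hv using hch
    cases nonempty_fintype V
    rw [Nat.card_eq_fintype_card, Nat.card_eq_fintype_card]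
    refine Fintype.card_lt_of_injective_not_surjective (fun e => e.1 (v e)) (fun e f h => ?_) fun hs => ?_
    · by_contra hne
      have h1 := congrArg (fun x => e.1 x) h
      simp only [hidem, horth e f hne] at h1
      exact hv e h1
    · obtain ⟨e, he⟩ := hs 0
      exact hv e he
  obtain ⟨col, hcol⟩ := colourable_of_action (S := G) (Ω := {e // e ∈ E}) hC (by omega)
  choose g hg using htrans
  refine ⟨fun l => ∑ e, g e • ((t (col e) l : W) : V), fun h hfix x => ?_⟩
  have hcomp : ∀ e : {e // e ∈ E}, ∀ w : W, e.1 (g e • (w : V)) = g e • (w : V) := by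
    intro e w
    obtain ⟨u, hu⟩ := w.2
    have hu' : b0.1 u = (w : V) := hu
    have h1 := hsm (g e) b0 (b0.1 u)
    rw [hg e, hidem, hu'] at h1
    exact h1
  have hproj : ∀ (y : {e // e ∈ E} → V), (∀ e, e.1 (y e) = y e) → ∀ e, e.1 (∑ f, y f) = y e := by
    intro y hy e
    rw [map_sum, Finset.sum_eq_single e]
    · exact hy e
    · intro f _ hf
      rw [← hy f]
      exact horth e f (Ne.symm hf) _
    · intro h; exact absurd (Finset.mem_univ _) h
  -- `h` maps the block of `e` to the block of `h • e`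
  have hk : ∀ e, (g (h • e))⁻¹ * h * g e ∈ H := fun e => by
    show ((g (h • e))⁻¹ * h * g e) • b0 = b0
    rw [mul_smul, mul_smul, hg e, inv_smul_eq_iff, hg]
  have hmap : ∀ e l, (⟨_, hk e⟩ : H) • t (col e) l = t (col (h • e)) l := by
    intro e l
    have h1 := hfix l
    have h2 := congrArg (fun x => (h • e).1 x) h1
    simp only at h2
    rw [hsm, hproj _ (fun f => hcomp f _), hproj _ (fun f => hcomp f _)] at h2
    refine Subtype.ext ?_
    show ((g (h • e))⁻¹ * h * g e) • ((t (col e) l : W) : V) = _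
    rw [mul_smul, mul_smul, inv_smul_eq_iff]
    exact h2
  have hcol' : ∀ e, col (h • e) = col e := fun e =>
    (ht _ _ ⟨ρ ⟨_, hk e⟩, ⟨_, rfl⟩⟩ (hmap e)).1.symm
  have hfixE : ∀ e : {e // e ∈ E}, h • e = e := hcol h hcol'
  have hblock : ∀ (e : {e // e ∈ E}) (w : W), h • g e • (w : V) = g e • (w : V) := by
    intro e w
    have htriv := (ht _ _ ⟨ρ ⟨_, hk e⟩, ⟨_, rfl⟩⟩ (fun l => by
      have := hmap e l; exact this)).2 w
    have h2 : ((g (h • e))⁻¹ * h * g e) • (w : V) = w := congrArg Subtype.val htriv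
    rw [mul_smul, mul_smul, inv_smul_eq_iff, hfixE] at h2
    exact h2
  conv_lhs => rw [← hsum x]
  rw [Finset.smul_sum]
  conv_rhs => rw [← hsum x]
  refine Finset.sum_congr rfl fun e _ => ?_
  have hw : ∃ w : W, e.1 x = g e • (w : V) := by
    refine ⟨⟨(g e)⁻¹ • e.1 x, (g e)⁻¹ • x, ?_⟩, ?_⟩
    · have h1 := hsm (g e)⁻¹ e x
      rwa [show (g e)⁻¹ • e = b0 by rw [inv_smul_eq_iff, hg]] at h1
    · rw [smul_inv_smul]
  obtain ⟨w, hw⟩ := hw
  rw [hw, hblock]

theorem triple_step {n : ℕ} (hC : ColourOK n) (hT : TripleOK n) : TripleOK (n + 1) := by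
  intro V _ _ hV G hG hirr
  by_cases hV' : Nat.card V ≤ n
  · exact hT V hV' G hG hirr
  rcases subsingleton_or_nontrivial V with h | h
  · exact ⟨fun _ => 0, fun g _ x => Subsingleton.elim _ _⟩
  by_cases hprim : Primitive G
  · exact triple_of_primitive hG hirr hprim fun {S Ω} _ _ _ _ hΩ =>
      colourable_of_action hC (by omega)
  · simp only [Primitive, not_forall, not_not] at hprim
    obtain ⟨E, hE⟩ := hprim
    exact triple_of_decomp hG hirr hE hV hC hT

/-- A group that is intransitive. -/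
theorem colour_intransitive {n : ℕ} (hC : ColourOK n) {Ω : Type} [Finite Ω]
    (hΩ : Nat.card Ω ≤ n + 1) {G : Subgroup (Equiv.Perm Ω)} (hG : Group.IsSolvable G) {x0 y0 : Ω}
    (hy : y0 ∉ MulAction.orbit G x0) : Colourable G Ω := by
  classical
  haveI := hG
  cases nonempty_fintype Ω
  let A : SubMulAction G Ω :=
    { carrier := MulAction.orbit G x0
      smul_mem' := fun g x hx => MulAction.mem_orbit_of_mem_orbit g hx }
  let B : SubMulAction G Ω :=
    { carrier := (MulAction.orbit G x0)ᶜ
      smul_mem' := fun g x hx h => hx (by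
        have := MulAction.mem_orbit_of_mem_orbit g⁻¹ h
        rwa [inv_smul_smul] at this) }
  have hA : Nat.card A ≤ n := by
    have : Nat.card A < Nat.card Ω := by
      rw [Nat.card_eq_fintype_card, Nat.card_eq_fintype_card]
      exact Fintype.card_lt_of_injective_not_surjective (fun a : A => (a : Ω)) Subtype.val_injective
        fun hs => by obtain ⟨a, ha⟩ := hs y0; exact hy (ha ▸ a.2)
    omega
  have hB : Nat.card B ≤ n := by
    have : Nat.card B < Nat.card Ω := by
      rw [Nat.card_eq_fintype_card, Nat.card_eq_fintype_card]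
      exact Fintype.card_lt_of_injective_not_surjective (fun a : B => (a : Ω)) Subtype.val_injective
        fun hs => by
          obtain ⟨a, ha⟩ := hs x0
          have ha' : (a : Ω) ∉ MulAction.orbit G x0 := a.2
          exact ha' (by rw [show (a : Ω) = x0 from ha]; exact MulAction.mem_orbit_self x0)
    omega
  obtain ⟨cA, hcA⟩ := colourable_of_action (S := G) (Ω := A) hC hA
  obtain ⟨cB, hcB⟩ := colourable_of_action (S := G) (Ω := B) hC hB
  refine ⟨fun x => if h : x ∈ MulAction.orbit G x0 then cA ⟨x, h⟩ else cB ⟨x, h⟩, fun g hg x => ?_⟩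
  have h1 : ∀ a : A, g • a = a := hcA g fun a => by
    have := hg (a : Ω)
    dsimp only at this
    rw [dif_pos (show g • (a : Ω) ∈ MulAction.orbit G x0 from (g • a).2), dif_pos (show (a : Ω) ∈ MulAction.orbit G x0 from a.2)] at this
    exact this
  have h2 : ∀ b : B, g • b = b := hcB g fun b => by
    have := hg (b : Ω)
    dsimp only at this
    rw [dif_neg (show g • (b : Ω) ∉ MulAction.orbit G x0 from (g • b).2),
      dif_neg (show (b : Ω) ∉ MulAction.orbit G x0 from b.2)] at this
    exact this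
  by_cases h : x ∈ MulAction.orbit G x0
  · exact congrArg Subtype.val (h1 ⟨x, h⟩)
  · exact congrArg Subtype.val (h2 ⟨x, h⟩)

/-- A transitive imprimitive group. -/
theorem colour_imprimitive {n : ℕ} (hC : ColourOK n) {Ω : Type} [Finite Ω]
    (hΩ : Nat.card Ω ≤ n + 1) {G : Subgroup (Equiv.Perm Ω)} (hG : Group.IsSolvable G)
    [MulAction.IsPretransitive G Ω] {B : Set Ω} (hB : MulAction.IsBlock G B)
    (hB1 : ¬ B.Subsingleton) (hB2 : B ≠ Set.univ) : Colourable G Ω := by
  classical
  haveI := hG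
  cases nonempty_fintype Ω
  obtain ⟨a, haB, b, hbB, hab⟩ : ∃ a ∈ B, ∃ b ∈ B, a ≠ b := by
    simpa [Set.Subsingleton] using hB1
  -- the blocks
  have htrans : ∀ x : Ω, ∃ g : G, g⁻¹ • x ∈ B := fun x => by
    obtain ⟨g, hg⟩ := MulAction.exists_smul_eq G a x
    exact ⟨g, by rwa [← hg, inv_smul_smul]⟩
  let P := MulAction.orbit G B
  have hPcard : Nat.card P ≤ n := by
    have hlt : Nat.card P < Nat.card Ω := by
      let r : Ω → P := fun x => ⟨Classical.choose (htrans x) • B, MulAction.mem_orbit _ _⟩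
      have hr : ∀ x (p : P), x ∈ (p : Set Ω) → r x = p := by
        rintro x ⟨_, g, rfl⟩ hx
        refine Subtype.ext (hB.smul_eq_smul_of_nonempty ⟨x, ?_, hx⟩)
        rw [Set.mem_smul_set_iff_inv_smul_mem]
        exact Classical.choose_spec (htrans x)
      rw [Nat.card_eq_fintype_card, Nat.card_eq_fintype_card]
      refine Fintype.card_lt_of_surjective_not_injective r (fun p => ?_) fun hinj => hab ?_
      · obtain ⟨g, hg⟩ := p.2
        have hg' : g • B = (p : Set Ω) := hg
        exact ⟨g • a, hr _ p (hg' ▸ Set.smul_mem_smul_set haB)⟩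
      · apply hinj
        have hBP : B ∈ P := MulAction.mem_orbit_self B
        rw [hr a ⟨B, hBP⟩ haB, hr b ⟨B, hBP⟩ hbB]
    omega
  -- the colourings of a block
  let H : Subgroup G := MulAction.stabilizer G B
  letI : MulAction H B :=
    { smul := fun h x => ⟨(h : G) • (x : Ω), by
        have h' : (h : G) • B = B := h.2
        exact (Set.ext_iff.1 h' _).1 (Set.smul_mem_smul_set x.2)⟩
      one_smul := fun x => Subtype.ext (one_smul G (x : Ω))
      mul_smul := fun g h x => Subtype.ext (mul_smul (g : G) (h : G) (x : Ω)) }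
  haveI : Group.IsSolvable H :=
    Group.isSolvable_of_isSolvable_injective (f := H.subtype) H.subtype_injective
  haveI : Nonempty B := ⟨⟨a, haB⟩⟩
  have hBcard : Nat.card B ≤ n := by
    have : Nat.card B < Nat.card Ω := by
      rw [Nat.card_eq_fintype_card, Nat.card_eq_fintype_card]
      refine Fintype.card_lt_of_injective_not_surjective (fun x : B => (x : Ω)) Subtype.val_injective
        fun hs => hB2 (Set.eq_univ_of_forall fun x => ?_)
      obtain ⟨y, hy⟩ := hs x
      exact hy ▸ y.2
    omega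
  obtain ⟨c, hc⟩ := (colourable_of_action (S := H) (Ω := B) hC hBcard).five
  obtain ⟨col, hcol⟩ := colourable_of_action (S := G) (Ω := P) hC hPcard
  have hrep : ∀ p : P, ∃ g : G, g • B = (p : Set Ω) := fun p => p.2
  choose gP hgP using hrep
  -- the block through each point
  let blk : Ω → P := fun x => ⟨Classical.choose (htrans x) • B, MulAction.mem_orbit _ _⟩
  have hblk : ∀ x, x ∈ (blk x : Set Ω) := fun x => by
    show x ∈ Classical.choose (htrans x) • B
    rw [Set.mem_smul_set_iff_inv_smul_mem]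
    exact Classical.choose_spec (htrans x)
  have huniq : ∀ x (p : P), x ∈ (p : Set Ω) → blk x = p := by
    intro x p hx
    refine Subtype.ext ?_
    rw [← hgP p] at hx ⊢
    refine hB.smul_eq_smul_of_nonempty ⟨x, hblk x, hx⟩
  have hin : ∀ x, (gP (blk x))⁻¹ • x ∈ B := fun x => by
    rw [← Set.mem_smul_set_iff_inv_smul_mem, hgP]
    exact hblk x
  refine ⟨fun x => c (col (blk x)) ⟨_, hin x⟩, fun g hg x => ?_⟩
  have hmove : ∀ y, blk (g • y) = g • blk y := fun y => huniq _ _ (by
    show g • y ∈ g • (blk y : Set Ω)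
    exact Set.smul_mem_smul_set (hblk y))
  have hk : ∀ p : P, (gP (g • p))⁻¹ * g * gP p ∈ H := fun p => by
    show ((gP (g • p))⁻¹ * g * gP p) • B = B
    rw [mul_smul, mul_smul, hgP, inv_smul_eq_iff, hgP]
    rfl
  have hkey : ∀ (p : P) (z : B), c (col (g • p)) ((⟨_, hk p⟩ : H) • z) = c (col p) z := by
    intro p z
    have hy : gP p • (z : Ω) ∈ (p : Set Ω) := hgP p ▸ Set.smul_mem_smul_set z.2
    have hp' := huniq _ p hy
    have h := hg (gP p • (z : Ω))
    have e1 : (⟨_, hin (gP p • (z : Ω))⟩ : B) = z := Subtype.ext (by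
      show (gP (blk (gP p • (z : Ω))))⁻¹ • gP p • (z : Ω) = z
      rw [hp', inv_smul_smul])
    have e2 : (⟨_, hin (g • gP p • (z : Ω))⟩ : B) = (⟨_, hk p⟩ : H) • z := Subtype.ext (by
      show (gP (blk (g • gP p • (z : Ω))))⁻¹ • g • gP p • (z : Ω) =
        ((gP (g • p))⁻¹ * g * gP p) • (z : Ω)
      rw [hmove, hp', mul_smul, mul_smul])
    dsimp only at h
    rw [e1, e2, hmove, hp'] at h
    exact h
  have hcol' : ∀ p, col (g • p) = col p := fun p => (hc _ _ _ (hkey p)).1
  have hfix : ∀ p : P, g • p = p := hcol g hcol'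
  have hz := (hc _ _ _ (hkey (blk x))).2 ⟨_, hin x⟩
  have hz' : ((gP (g • blk x))⁻¹ * g * gP (blk x)) • ((gP (blk x))⁻¹ • x) = (gP (blk x))⁻¹ • x :=
    congrArg Subtype.val hz
  rw [hfix, mul_smul, mul_smul, smul_inv_smul] at hz'
  exact smul_left_cancel _ hz'

/-- Points with the same colour as one of the four marked points coincide with it. -/
theorem chain_inj {α : Type} [DecidableEq α] {a b c d x z : α}
    (hz : z = a ∨ z = b ∨ z = c ∨ z = d)
    (h : (if x = a then (0 : Fin 5) else if x = b then 1 else if x = c then 2 else if x = d then 3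
        else 4) =
      (if z = a then (0 : Fin 5) else if z = b then 1 else if z = c then 2 else if z = d then 3
        else 4)) : x = z := by
  split_ifs at h <;> simp_all

/-- A primitive group. -/
theorem colour_primitive {n : ℕ} (hT : TripleOK (n + 1)) {Ω : Type} [Finite Ω]
    (hΩ : Nat.card Ω ≤ n + 1) {G : Subgroup (Equiv.Perm Ω)} (hG : Group.IsSolvable G)
    [MulAction.IsPreprimitive G Ω] [Nontrivial Ω] : Colourable G Ω := by
  classical
  haveI := hG
  haveI : MulAction.IsPretransitive G Ω := inferInstance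
  obtain ⟨x0, y0, hxy⟩ := exists_pair_ne Ω
  -- a minimal normal subgroup
  obtain ⟨N, -, hNmin⟩ := Finite.exists_le_maximal (α := (Subgroup G)ᵒᵈ)
    (p := fun N => (OrderDual.ofDual N).Normal ∧ OrderDual.ofDual N ≠ ⊥)
    (a := OrderDual.toDual (⊤ : Subgroup G))
    ⟨(inferInstance : (⊤ : Subgroup G).Normal), fun h => hxy (by
      obtain ⟨g, hg⟩ := MulAction.exists_smul_eq G x0 y0
      have : g ∈ (⊤ : Subgroup G) := Subgroup.mem_top g
      have h' : (⊤ : Subgroup G) = ⊥ := h
      rw [h', Subgroup.mem_bot] at this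
      rw [← hg, this, one_smul])⟩
  obtain ⟨hNn, hNne⟩ := hNmin.prop
  generalize hNdef : OrderDual.ofDual N = N' at hNn hNne
  haveI := hNn
  have hmin : ∀ M : Subgroup G, M.Normal → M ≤ N' → M = ⊥ ∨ M = N' := by
    intro M hM hle
    by_cases h : M = ⊥
    · exact Or.inl h
    · refine Or.inr (le_antisymm hle ?_)
      have h1 : OrderDual.ofDual N ≤ M := hNmin.le_of_ge (y := OrderDual.toDual M) ⟨hM, h⟩
        (show M ≤ OrderDual.ofDual N by rw [hNdef]; exact hle)
      rwa [hNdef] at h1
  have hab : ∀ a ∈ N', ∀ b ∈ N', a * b = b * a := by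
    intro a ha b hb
    have hlt : ⁅N', N'⁆ < N' := by
      haveI := hG
      exact Group.isSolvable_iff_commutator_lt.1 hG N' hNne
    have h0 := (hmin ⁅N', N'⁆ inferInstance hlt.le).resolve_right hlt.ne
    have h1 := Subgroup.commutator_mem_commutator ha hb
    rw [h0, Subgroup.mem_bot] at h1
    exact commutatorElement_eq_one_iff_mul_comm.1 h1
  haveI : MulAction.IsPretransitive N' Ω := by
    refine MulAction.IsQuasiPreprimitive.isPretransitive_of_normal (G := G) fun h => hNne ?_
    refine (Subgroup.eq_bot_iff_forall _).2 fun g hg => Subtype.ext (Equiv.ext fun x => ?_)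
    have : x ∈ MulAction.fixedPoints N' Ω := h ▸ Set.mem_univ x
    exact this ⟨g, hg⟩
  have hreg : ∀ m : N', m • x0 = x0 → m = 1 := by
    intro m hm
    refine Subtype.ext (Subtype.ext (Equiv.ext fun x => ?_))
    obtain ⟨k, rfl⟩ := MulAction.exists_smul_eq N' x0 x
    show m • k • x0 = k • x0
    rw [← mul_smul, show m * k = k * m from Subtype.ext (hab m m.2 k k.2), mul_smul, hm]
  have hbij : Function.Bijective fun m : N' => m • x0 := by
    refine ⟨fun m k h => ?_, fun x => MulAction.exists_smul_eq N' x0 x⟩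
    have h' : m • x0 = k • x0 := h
    exact (inv_mul_eq_one.1 (hreg (k⁻¹ * m) (by rw [mul_smul, h', inv_smul_smul]))).symm
  let H : Subgroup G := MulAction.stabilizer G x0
  letI : CommGroup N' :=
    { (inferInstance : Group N') with mul_comm := fun a b => Subtype.ext (hab a a.2 b b.2) }
  have hconj : ∀ (g : G) (m : N'), g * (m : G) * g⁻¹ ∈ N' := fun g m => hNn.conj_mem m m.2 g
  letI : DistribMulAction H (Additive N') :=
    { smul := fun h v => Additive.ofMul ⟨_, hconj h (Additive.toMul v)⟩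
      one_smul := fun v => congrArg Additive.ofMul (Subtype.ext (by
        show (1 : G) * _ * (1 : G)⁻¹ = _
        group; rfl))
      mul_smul := fun g h v => congrArg Additive.ofMul (Subtype.ext (by
        show ((g : G) * h) * ((Additive.toMul v : N') : G) * ((g : G) * h)⁻¹ =
          (g : G) * ((h : G) * ((Additive.toMul v : N') : G) * (h : G)⁻¹) * (g : G)⁻¹
        group))
      smul_zero := fun h => congrArg Additive.ofMul (Subtype.ext (by
        show (h : G) * 1 * (h : G)⁻¹ = 1
        group))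
      smul_add := fun h u v => congrArg Additive.ofMul (Subtype.ext (by
        show (h : G) * (((Additive.toMul u : N') : G) * ((Additive.toMul v : N') : G)) * (h : G)⁻¹ =
          (h : G) * ((Additive.toMul u : N') : G) * (h : G)⁻¹ *
            ((h : G) * ((Additive.toMul v : N') : G) * (h : G)⁻¹)
        group)) }
  let ρ : H →* (AddMonoid.End (Additive N'))ˣ :=
    MonoidHom.toHomUnits (DistribMulAction.toAddMonoidEnd H (Additive N'))
  have hρ : ∀ (h : H) (v : Additive N'), ρ h • v = h • v := fun h v => rfl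
  haveI : Group.IsSolvable H :=
    Group.isSolvable_of_isSolvable_injective (f := H.subtype) H.subtype_injective
  haveI hρs : Group.IsSolvable ρ.range :=
    Group.isSolvable_of_surjective ρ.rangeRestrict_surjective
  have hirr : Irred ρ.range := by
    intro U hU
    let M : Subgroup G :=
      { carrier := {g | ∃ hg : g ∈ N', Additive.ofMul (⟨g, hg⟩ : N') ∈ U}
        one_mem' := ⟨N'.one_mem, U.zero_mem⟩
        mul_mem' := fun ⟨ha, ha'⟩ ⟨hb, hb'⟩ => ⟨N'.mul_mem ha hb, U.add_mem ha' hb'⟩
        inv_mem' := fun ⟨ha, ha'⟩ => ⟨N'.inv_mem ha, U.neg_mem ha'⟩ }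
    have hMn : M.Normal := ⟨fun u ⟨hu, hu'⟩ g => by
      obtain ⟨m, hm⟩ := hbij.2 (g • x0)
      have hm' : (m : G) • x0 = g • x0 := hm
      have hH : (m : G)⁻¹ * g ∈ H := by
        show ((m : G)⁻¹ * g) • x0 = x0
        rw [mul_smul, ← hm', inv_smul_smul]
      have h1 := hU _ ⟨⟨_, hH⟩, rfl⟩ _ hu'
      rw [hρ] at h1
      refine ⟨hNn.conj_mem u hu g, ?_⟩
      convert h1 using 1
      refine congrArg Additive.ofMul (Subtype.ext ?_)
      show g * u * g⁻¹ = ((m : G)⁻¹ * g) * u * ((m : G)⁻¹ * g)⁻¹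
      have hc : (m : G) * (g * u * g⁻¹) = g * u * g⁻¹ * (m : G) :=
        hab m m.2 _ (hNn.conj_mem u hu g)
      have : (m : G)⁻¹ * (g * u * g⁻¹) * (m : G) = g * u * g⁻¹ := by
        rw [mul_assoc, ← hc, inv_mul_cancel_left]
      conv_lhs => rw [← this]
      group⟩
    rcases hmin M hMn (fun g hg => hg.1) with h | h
    · left
      refine (AddSubgroup.eq_bot_iff_forall _).2 fun v hv => ?_
      have : ((Additive.toMul v : N') : G) ∈ M := ⟨(Additive.toMul v).2, hv⟩
      rw [h, Subgroup.mem_bot] at this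
      exact congrArg Additive.ofMul (Subtype.ext this : Additive.toMul v = 1)
    · right
      refine (AddSubgroup.eq_top_iff' _).2 fun v => ?_
      obtain ⟨_, hv⟩ : ((Additive.toMul v : N') : G) ∈ M := h.symm ▸ (Additive.toMul v).2
      exact hv
  obtain ⟨v, hv⟩ := hT (Additive N') (by
    rw [Nat.card_congr (Additive.ofMul (α := N')).symm, Nat.card_congr (Equiv.ofBijective _ hbij)]
    exact hΩ) ρ.range hρs hirr
  let y : Fin 3 → Ω := fun i => (Additive.toMul (v i) : N') • x0
  let c : Ω → Fin 5 := fun x =>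
    if x = x0 then 0 else if x = y 0 then 1 else if x = y 1 then 2 else if x = y 2 then 3 else 4
  refine ⟨c, fun g hg x => ?_⟩
  have hg0 : g • x0 = x0 := chain_inj (Or.inl rfl) (hg x0)
  have hgy : ∀ i, g • y i = y i := by
    intro i
    refine chain_inj ?_ (hg (y i))
    fin_cases i
    exacts [Or.inr (Or.inl rfl), Or.inr (Or.inr (Or.inl rfl)), Or.inr (Or.inr (Or.inr rfl))]
  have hgH : g ∈ H := hg0
  have htriv := hv ⟨ρ ⟨g, hgH⟩, ⟨_, rfl⟩⟩ fun i => by
    show ρ ⟨g, hgH⟩ • v i = v i
    rw [hρ]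
    refine congrArg Additive.ofMul (hbij.1 ?_)
    show ((g : G) * ((Additive.toMul (v i) : N') : G) * g⁻¹) • x0 = _
    rw [mul_smul, mul_smul, inv_smul_eq_iff.2 hg0.symm]
    exact hgy i
  obtain ⟨m, rfl⟩ := hbij.2 x
  have h1 := congrArg (fun u => ((Additive.toMul u : N') : G)) (htriv (Additive.ofMul m))
  have h1' : g * (m : G) * g⁻¹ = (m : G) := h1
  show g • (m : G) • x0 = (m : G) • x0
  conv_lhs => rw [← mul_smul, mul_inv_eq_iff_eq_mul.1 h1', mul_smul, hg0]

theorem colour_step {n : ℕ} (hC : ColourOK n) (hT : TripleOK (n + 1)) : ColourOK (n + 1) := by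
  intro Ω _ hΩ G hG
  rcases subsingleton_or_nontrivial Ω with h | h
  · exact ⟨fun _ => 0, fun g _ x => Subsingleton.elim _ _⟩
  by_cases htr : MulAction.IsPretransitive G Ω
  · by_cases hprim : MulAction.IsPreprimitive G Ω
    · exact colour_primitive hT hΩ hG
    · obtain ⟨B, hB, hnt⟩ : ∃ B : Set Ω, MulAction.IsBlock G B ∧ ¬ MulAction.IsTrivialBlock B := by
        by_contra hne
        push Not at hne
        exact hprim { isTrivialBlock_of_isBlock := fun {B} hB => hne B hB }
      simp only [MulAction.IsTrivialBlock, not_or] at hnt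
      exact colour_imprimitive hC hΩ hG hB hnt.1 hnt.2
  · obtain ⟨x0, y0, hne⟩ : ∃ x0 y0 : Ω, y0 ∉ MulAction.orbit G x0 := by
      by_contra hne
      push Not at hne
      exact htr ⟨fun x y => hne x y⟩
    exact colour_intransitive hC hΩ hG hne

theorem colourOK_and_tripleOK : ∀ n, ColourOK n ∧ TripleOK n
  | 0 => ⟨fun Ω _ hΩ G _ => by
      have : IsEmpty Ω := (Finite.card_eq_zero_iff).1 (Nat.le_zero.1 hΩ)
      exact ⟨fun _ => 0, fun g _ x => isEmptyElim x⟩,
    fun V _ _ hV G _ _ => absurd (Nat.card_pos (α := V)) (by omega)⟩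
  | n + 1 =>
    have h := colourOK_and_tripleOK n
    have hT := triple_step h.1 h.2
    ⟨colour_step h.1 hT, hT⟩

/-- Completely reducible solvable groups have regular triples. -/
theorem hasTriple_of_completelyReducible {V : Type} [AddCommGroup V] [Finite V]
    (G : Subgroup (AddMonoid.End V)ˣ) (hG : Group.IsSolvable G)
    (hcr : ∀ U : AddSubgroup V, (∀ g ∈ G, ∀ u ∈ U, g • u ∈ U) →
      ∃ W : AddSubgroup V, (∀ g ∈ G, ∀ w ∈ W, g • w ∈ W) ∧ U ⊓ W = ⊥ ∧ U ⊔ W = ⊤) :
    HasTriple G V := by
  classical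
  haveI := hG
  suffices h : ∀ n, ∀ W : AddSubgroup V, Nat.card W ≤ n → (∀ g ∈ G, ∀ w ∈ W, g • w ∈ W) →
      ∃ t : Fin 3 → V, (∀ i, t i ∈ W) ∧
        ∀ g : G, (∀ i, g • t i = t i) → ∀ w ∈ W, g • w = w by
    obtain ⟨t, -, ht⟩ := h _ ⊤ le_rfl (fun _ _ _ _ => AddSubgroup.mem_top _)
    exact ⟨t, fun g hg x => ht g hg x (AddSubgroup.mem_top x)⟩
  intro n
  induction n with
  | zero => intro W hW; exact absurd (Nat.card_pos (α := W)) (by omega)
  | succ n ih =>
    intro W hW hWinv
    by_cases hW0 : W = ⊥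
    · subst hW0
      exact ⟨fun _ => 0, fun _ => AddSubgroup.zero_mem _, fun g _ w hw => by
        rw [AddSubgroup.mem_bot.1 hw, smul_zero]⟩
    -- a minimal invariant subgroup of `W`
    obtain ⟨U, -, hUmin⟩ := Finite.exists_le_maximal (α := (AddSubgroup V)ᵒᵈ)
      (p := fun U => OrderDual.ofDual U ≤ W ∧ OrderDual.ofDual U ≠ ⊥ ∧
        ∀ g ∈ G, ∀ u ∈ OrderDual.ofDual U, g • u ∈ OrderDual.ofDual U)
      (a := OrderDual.toDual W) ⟨le_rfl, hW0, hWinv⟩
    obtain ⟨hUW, hUne, hUinv⟩ := hUmin.prop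
    generalize hUdef : OrderDual.ofDual U = U' at hUW hUne hUinv
    obtain ⟨C, hCinv, hUC, hUC'⟩ := hcr U' hUinv
    obtain ⟨t', ht'W, ht'⟩ := ih (W ⊓ C) (by
      have hlt : Nat.card (W ⊓ C : AddSubgroup V) < Nat.card W := by
        cases nonempty_fintype V
        rw [Nat.card_eq_fintype_card, Nat.card_eq_fintype_card]
        obtain ⟨u, hu, hu0⟩ : ∃ u ∈ U', u ≠ 0 := by
          by_contra hne
          push Not at hne
          exact hUne ((AddSubgroup.eq_bot_iff_forall _).2 hne)
        refine Fintype.card_lt_of_injective_not_surjective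
          (AddSubgroup.inclusion (inf_le_left : W ⊓ C ≤ W))
          (AddSubgroup.inclusion_injective _) fun hs => hu0 ?_
        obtain ⟨⟨c, hc⟩, hc'⟩ := hs ⟨u, hUW hu⟩
        have : u ∈ U' ⊓ C := ⟨hu, by
          have := congrArg Subtype.val hc'
          rw [← show c = u from this]
          exact hc.2⟩
        rwa [hUC, AddSubgroup.mem_bot] at this
      omega) (fun g hg w hw => ⟨hWinv g hg w hw.1, hCinv g hg w hw.2⟩)
    letI : DistribMulAction G U' :=
      { smul := fun g u => ⟨g • (u : V), hUinv g g.2 u u.2⟩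
        one_smul := fun u => Subtype.ext (one_smul G (u : V))
        mul_smul := fun g h u => Subtype.ext (mul_smul g h (u : V))
        smul_zero := fun g => Subtype.ext (smul_zero g)
        smul_add := fun g a b => Subtype.ext (smul_add g (a : V) (b : V)) }
    let ρ : G →* (AddMonoid.End U')ˣ := MonoidHom.toHomUnits (DistribMulAction.toAddMonoidEnd G U')
    have hirr : Irred ρ.range := by
      intro X hX
      by_cases hX0 : X = ⊥
      · exact Or.inl hX0
      right
      have hle : X.map U'.subtype ≤ OrderDual.ofDual U := by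
        rintro _ ⟨x, -, rfl⟩
        rw [hUdef]
        exact x.2
      have h1 : OrderDual.ofDual U ≤ X.map U'.subtype :=
        hUmin.le_of_ge (y := OrderDual.toDual (X.map U'.subtype))
        ⟨by rintro _ ⟨x, -, rfl⟩; exact hUW x.2,
          fun h => hX0 ((AddSubgroup.map_eq_bot_iff_of_injective _ Subtype.val_injective).1 h),
          fun g hg _ ⟨x, hx, hxv⟩ => ⟨ρ ⟨g, hg⟩ • x, hX _ ⟨_, rfl⟩ x hx, by
            rw [← hxv]; rfl⟩⟩ hle
      refine (AddSubgroup.eq_top_iff' _).2 fun u => ?_
      obtain ⟨x, hx, hxu⟩ := h1 (show (u : V) ∈ OrderDual.ofDual U by rw [hUdef]; exact u.2)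
      rwa [Subtype.ext hxu] at hx
    obtain ⟨t, ht⟩ := (colourOK_and_tripleOK (Nat.card U')).2 U' le_rfl ρ.range
      (Group.isSolvable_of_surjective ρ.rangeRestrict_surjective) hirr
    refine ⟨fun i => (t i : V) + t' i, fun i => W.add_mem (hUW (t i).2) (ht'W i).1,
      fun g hg w hw => ?_⟩
    have hsplit : ∀ i, g • (t i : V) = t i ∧ g • t' i = t' i := by
      intro i
      have h := hg i
      rw [smul_add] at h
      have h1 : g • (t i : V) - t i = t' i - g • t' i := by
        rw [sub_eq_sub_iff_add_eq_add, h, add_comm]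
      have hmem : g • (t i : V) - t i ∈ U' ⊓ C :=
        ⟨U'.sub_mem (hUinv g g.2 _ (t i).2) (t i).2,
          h1 ▸ C.sub_mem (ht'W i).2 (hCinv g g.2 _ (ht'W i).2)⟩
      rw [hUC, AddSubgroup.mem_bot] at hmem
      exact ⟨sub_eq_zero.1 hmem, (sub_eq_zero.1 (h1 ▸ hmem)).symm⟩
    have hwUC : w ∈ U' ⊔ C := hUC'.symm ▸ AddSubgroup.mem_top w
    obtain ⟨u, hu, c, hc, rfl⟩ := AddSubgroup.mem_sup.1 hwUC
    have hcW : c ∈ W := by
      have := W.sub_mem hw (hUW hu)
      rwa [add_sub_cancel_left] at this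
    have hu' : g • u = u := congrArg Subtype.val
      (ht ⟨ρ g, ⟨g, rfl⟩⟩ (fun i => Subtype.ext (hsplit i).1) ⟨u, hu⟩)
    rw [smul_add, hu', ht' g (fun i => (hsplit i).2) c ⟨hcW, hc⟩]

end Cfsg.Agent.Lib.BaseThree
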