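import Cfsg.Agent.Lib.BaseThree.Basic

/-!
# Three colours on an elementary abelian 2-group or 3-group

For a solvable group of automorphisms of `(Z/q)^m`, `q ∈ {2, 3}`, there is a three-colouring of the
nonzero vectors that only the identity preserves.
-/

set_option autoImplicit false
set_option linter.style.haveILetI false

namespace Cfsg.Agent.Lib.BaseThree

variable {q m : ℕ}

/-- The sum of the basis vectors in a set. -/
def indVec (q : ℕ) {m : ℕ} (T : Finset (Fin m)) : Fin m → ZMod q := fun i => if i ∈ T then 1 else 0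

theorem indVec_singleton (i : Fin m) : indVec q ({i} : Finset (Fin m)) = Pi.single i 1 := by
  funext k; simp [indVec, Pi.single_apply]

theorem indVec_eq_sum (T : Finset (Fin m)) :
    indVec q T = ∑ i ∈ T, (Pi.single i 1 : Fin m → ZMod q) := by
  funext k; simp [indVec, Finset.sum_apply, Pi.single_apply]

theorem indVec_injective [Nontrivial (ZMod q)] : Function.Injective (indVec q (m := m)) := by
  intro S T h
  ext i
  have := congrFun h i
  simp only [indVec] at this
  by_cases h1 : i ∈ S <;> by_cases h2 : i ∈ T <;> simp_all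

theorem eq_of_fix_single [NeZero q] (f : (Fin m → ZMod q) →+ (Fin m → ZMod q))
    (hf : ∀ i, f (Pi.single i 1) = Pi.single i 1) : ∀ x, f x = x := by
  have h : f.toZModLinearMap q = LinearMap.id := by
    refine LinearMap.pi_ext' fun i => LinearMap.ext_ring ?_
    simpa using hf i
  exact fun x => LinearMap.congr_fun h x

/-- The colouring with classes `A` and `B`. -/
def colourTwo {X : Type*} [DecidableEq X] (A B : Finset X) (x : X) : Fin 3 :=
  if x ∈ A then 0 else if x ∈ B then 1 else 2

theorem mem_of_colourTwo {X : Type*} [DecidableEq X] {A B : Finset X} {x y : X}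
    (h : colourTwo A B y = colourTwo A B x) : (x ∈ A → y ∈ A) ∧ (x ∈ B → x ∉ A → y ∈ B) := by
  unfold colourTwo at h
  split_ifs at h <;> simp_all

theorem perm_eq_id_of_four {m : ℕ} (hm : 4 ≤ m) (π : Fin m → Fin m) (hπ : Function.Injective π)
    (h : ∀ T : Finset (Fin m),
      ((∃ k, 2 ≤ k ∧ k ≤ m ∧ T = Finset.univ.filter (fun i : Fin m => (i : ℕ) < k)) ∨
        T = Finset.univ.filter (fun i : Fin m => (i : ℕ) = 1 ∨ (i : ℕ) = 3)) →
      ((∃ k, 2 ≤ k ∧ k ≤ m ∧ T.image π = Finset.univ.filter (fun i : Fin m => (i : ℕ) < k)) ∨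
        T.image π = Finset.univ.filter (fun i : Fin m => (i : ℕ) = 1 ∨ (i : ℕ) = 3))) :
    ∀ i, π i = i := by
  classical
  let P : ℕ → Finset (Fin m) := fun k => Finset.univ.filter (fun i : Fin m => (i : ℕ) < k)
  let D : Finset (Fin m) := Finset.univ.filter (fun i : Fin m => (i : ℕ) = 1 ∨ (i : ℕ) = 3)
  have hcard : ∀ k, k ≤ m → (P k).card = k := by
    intro k hk
    rw [show P k = (Finset.range k).attachFin (fun i hi => by
      rw [Finset.mem_range] at hi; omega) by ext i; simp [P]]
    simp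
  have hDcard : D.card = 2 := by
    rw [show D = {(⟨1, by omega⟩ : Fin m), ⟨3, by omega⟩} by ext i; simp [D, Fin.ext_iff]]
    simp
  have hP : ∀ k, 3 ≤ k → k ≤ m → (P k).image π = P k := by
    intro k h3 hk
    have hc : ((P k).image π).card = k := by
      rw [Finset.card_image_of_injective _ hπ, hcard k hk]
    rcases h (P k) (Or.inl ⟨k, by omega, hk, rfl⟩) with ⟨l, -, hl, hl'⟩ | hd
    · rw [hl'] at hc
      rw [hl', ← hcard l hl]
      exact congrArg P (by rw [hcard l hl]; exact (hcard l hl).symm.trans hc)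
    · rw [hd] at hc
      have : D.card = k := hc
      omega
  have hmem : ∀ k, 3 ≤ k → k ≤ m → ∀ i : Fin m, (π i : ℕ) < k ↔ (i : ℕ) < k := by
    intro k h3 hk i
    have : π i ∈ (P k).image π ↔ i ∈ P k := hπ.mem_finset_image
    rw [hP k h3 hk] at this
    simpa [P] using this
  have hbig : ∀ i : Fin m, 3 ≤ (i : ℕ) → π i = i := by
    intro i hi
    have h1 := hmem i hi i.2.le i
    have h2 := hmem ((i : ℕ) + 1) (by omega) i.2 i
    ext
    omega
  have hsmall : ∀ i : Fin m, (π i : ℕ) < 3 ↔ (i : ℕ) < 3 := hmem 3 le_rfl (by omega)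
  let i0 : Fin m := ⟨0, by omega⟩
  let i1 : Fin m := ⟨1, by omega⟩
  let i2 : Fin m := ⟨2, by omega⟩
  let i3 : Fin m := ⟨3, by omega⟩
  have h3 : π i3 = i3 := hbig i3 le_rfl
  have e1 : π i1 = i1 := by
    rcases h D (Or.inr rfl) with ⟨k, hk2, hk, hk'⟩ | hd
    · exfalso
      have hc : (D.image π).card = 2 := by rw [Finset.card_image_of_injective _ hπ, hDcard]
      rw [hk'] at hc
      have hk2' : k = 2 := (hcard k hk).symm.trans hc
      have : i3 ∈ D.image π := Finset.mem_image.2 ⟨i3, by simp [D, i3], h3⟩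
      rw [hk'] at this
      simp [i3, hk2'] at this
    · have : π i1 ∈ D := (Finset.ext_iff.1 hd _).1 (Finset.mem_image_of_mem π (by simp [D, i1]))
      have hs := (hsmall i1).2 (by simp [i1])
      simp [D] at this
      ext
      simp only [i1] at *
      omega
  have e0 : π i0 = i0 := by
    rcases h (P 2) (Or.inl ⟨2, le_rfl, by omega, rfl⟩) with ⟨k, hk2, hk, hk'⟩ | hd
    · have hc : ((P 2).image π).card = 2 := by
        rw [Finset.card_image_of_injective _ hπ, hcard 2 (by omega)]
      rw [hk'] at hc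
      have hk2' : k = 2 := (hcard k hk).symm.trans hc
      subst hk2'
      have : π i0 ∈ P 2 := (Finset.ext_iff.1 hk' _).1 (Finset.mem_image_of_mem π (by simp [P, i0]))
      simp [P] at this
      have hne : π i0 ≠ i1 := fun e => absurd (hπ (e.trans e1.symm)) (by simp [i0, i1])
      ext
      simp only [i1, i0, ne_eq, Fin.ext_iff] at *
      omega
    · exfalso
      have : i3 ∈ (P 2).image π := by rw [hd]; simp [i3]
      obtain ⟨i, hi, hi'⟩ := Finset.mem_image.1 this
      have := hπ (hi'.trans h3.symm)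
      subst this
      simp [P, i3] at hi
  have e2 : π i2 = i2 := by
    have hs := (hsmall i2).2 (by simp [i2])
    have hne0 : π i2 ≠ i0 := fun e => absurd (hπ (e.trans e0.symm)) (by simp [i0, i2])
    have hne1 : π i2 ≠ i1 := fun e => absurd (hπ (e.trans e1.symm)) (by simp [i1, i2])
    ext
    simp only [i0, i1, i2, ne_eq, Fin.ext_iff] at *
    omega
  intro i
  rcases Nat.lt_or_ge (i : ℕ) 3 with hi | hi
  · interval_cases hi' : (i : ℕ)
    · rw [show i = i0 from Fin.ext hi']; exact e0
    · rw [show i = i1 from Fin.ext hi']; exact e1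
    · rw [show i = i2 from Fin.ext hi']; exact e2
  · exact hbig i hi

/-- An elementary transvection of `(Z/2)^3`. -/
def transv (i j : Fin 3) (x : Fin 3 → ZMod 2) : Fin 3 → ZMod 2 :=
  fun k => if k = i then x k + x j else x k

theorem transv_transv : ∀ i j : Fin 3, i ≠ j → ∀ x, transv i j (transv i j x) = x := by decide

theorem transv_comm : ∀ i j k : Fin 3, i ≠ j → i ≠ k → j ≠ k → ∀ x,
    transv i k (transv k j (transv i k (transv k j x))) = transv i j x := by decide

theorem exists_third : ∀ i j : Fin 3, ∃ k : Fin 3, i ≠ k ∧ j ≠ k := by decide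

/-- The frame colouring whose only nontrivial symmetry is a transvection. -/
def frameColour (i j k : Fin 3) : (Fin 3 → ZMod 2) → Fin 3 :=
  colourTwo {indVec 2 {j}, indVec 2 {i, j}, indVec 2 {k}} {indVec 2 {i, k}, indVec 2 {i}}

/-- The linear map with prescribed images of three basis vectors. -/
def linThree (i j k : Fin 3) (b a c : Fin 3 → ZMod 2) (x : Fin 3 → ZMod 2) : Fin 3 → ZMod 2 :=
  x i • b + x j • a + x k • c

/-- The rigidity condition for one choice of images. -/
def rigidAt (i j k : Fin 3) (b a c : Fin 3 → ZMod 2) : Prop :=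
  (∀ x : Fin 3 → ZMod 2, x ≠ 0 → frameColour i j k (linThree i j k b a c x) = frameColour i j k x) →
    (∀ x, linThree i j k b a c x = x) ∨ ∀ x, linThree i j k b a c x = transv i j x

instance (i j k : Fin 3) (b a c : Fin 3 → ZMod 2) : Decidable (rigidAt i j k b a c) := by
  unfold rigidAt; infer_instance

theorem frame_rigid : ∀ i j k : Fin 3, i ≠ j → i ≠ k → j ≠ k →
    ∀ a ∈ ({indVec 2 {j}, indVec 2 {i, j}, indVec 2 {k}} : Finset (Fin 3 → ZMod 2)),
    ∀ c ∈ ({indVec 2 {j}, indVec 2 {i, j}, indVec 2 {k}} : Finset (Fin 3 → ZMod 2)),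
    ∀ b ∈ ({indVec 2 {i, k}, indVec 2 {i}} : Finset (Fin 3 → ZMod 2)), rigidAt i j k b a c := by
  decide +kernel

theorem decomp_three : ∀ i j k : Fin 3, i ≠ j → i ≠ k → j ≠ k → ∀ x : Fin 3 → ZMod 2,
    x i • indVec 2 {i} + x j • indVec 2 {j} + x k • indVec 2 {k} = x := by
  decide

theorem exists_colour_three_two {S : Type*} [Group S] [Group.IsSolvable S]
    (σ : S →* Equiv.Perm (Fin 3 → ZMod 2)) (hadd : ∀ g x y, σ g (x + y) = σ g x + σ g y) :
    ∃ c : (Fin 3 → ZMod 2) → Fin 3, ∀ g : S,
      (∀ x, x ≠ 0 → c (σ g x) = c x) → ∀ x, σ g x = x := by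
  classical
  by_contra hne
  push Not at hne
  have hT : ∀ i j k : Fin 3, i ≠ j → i ≠ k → j ≠ k → ∃ g, ∀ x, σ g x = transv i j x := by
    intro i j k hij hik hjk
    obtain ⟨g, hg, x0, hx0⟩ := hne (frameColour i j k)
    let L := (AddMonoidHom.mk' (σ g) (hadd g)).toZModLinearMap 2
    have hL : ∀ x : Fin 3 → ZMod 2, σ g x = x i • σ g (indVec 2 {i}) + x j • σ g (indVec 2 {j}) +
        x k • σ g (indVec 2 {k}) := by
      intro x
      conv_lhs => rw [← decomp_three i j k hij hik hjk x]
      exact (L.map_add _ _).trans (by rw [map_add, map_smul, map_smul, map_smul]; rfl)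
    have hnz : ∀ T : Finset (Fin 3), T.Nonempty → indVec 2 T ≠ 0 := by decide
    have ha := (mem_of_colourTwo (hg (indVec 2 {j}) (hnz _ (by simp)))).1 (by simp)
    have hc := (mem_of_colourTwo (hg (indVec 2 {k}) (hnz _ (by simp)))).1 (by simp)
    have hdisj : ∀ i j k : Fin 3, i ≠ j → i ≠ k → j ≠ k → indVec 2 ({i} : Finset (Fin 3)) ∉
        ({indVec 2 {j}, indVec 2 {i, j}, indVec 2 {k}} : Finset (Fin 3 → ZMod 2)) := by decide
    have hb := (mem_of_colourTwo (hg (indVec 2 {i}) (hnz _ (by simp)))).2 (by simp)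
      (hdisj i j k hij hik hjk)
    rcases frame_rigid i j k hij hik hjk _ ha _ hc _ hb (fun x hx => by rw [linThree, ← hL]; exact hg x hx)
      with h | h
    · exact absurd ((hL x0).trans (h x0)) hx0
    · exact ⟨g, fun x => (hL x).trans (h x)⟩
  haveI : Group.IsSolvable σ.range := Group.isSolvable_of_surjective σ.rangeRestrict_surjective
  let s : Set σ.range := {p | ∃ i j : Fin 3, i ≠ j ∧ ∀ x, (p : Equiv.Perm _) x = transv i j x}
  have hex : ∀ i j : Fin 3, i ≠ j → ∃ p : σ.range, ∀ x, (p : Equiv.Perm _) x = transv i j x := by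
    intro i j hij
    obtain ⟨k, hik, hjk⟩ := exists_third i j
    obtain ⟨g, hg⟩ := hT i j k hij hik hjk
    exact ⟨⟨σ g, g, rfl⟩, hg⟩
  have hinv : ∀ i j, i ≠ j → ∀ p : Equiv.Perm (Fin 3 → ZMod 2), (∀ x, p x = transv i j x) →
      ∀ x, p⁻¹ x = transv i j x := by
    intro i j hij p hp x
    rw [Equiv.Perm.inv_eq_iff_eq, hp, transv_transv i j hij]
  have hcl : ∀ p ∈ s, ∃ a ∈ s, ∃ b ∈ s, p = a * b * a⁻¹ * b⁻¹ := by
    rintro p ⟨i, j, hij, hp⟩
    obtain ⟨k, hik, hjk⟩ := exists_third i j
    obtain ⟨a, ha⟩ := hex i k hik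
    obtain ⟨b, hb⟩ := hex k j (Ne.symm hjk)
    refine ⟨a, ⟨i, k, hik, ha⟩, b, ⟨k, j, Ne.symm hjk, hb⟩, ?_⟩
    ext1
    refine Equiv.ext fun x => ?_
    simp only [Subgroup.coe_mul, Subgroup.coe_inv, Equiv.Perm.mul_apply]
    rw [hp, hinv k j (Ne.symm hjk) _ hb, hinv i k hik _ ha, hb, ha,
      transv_comm i j k hij hik hjk]
  obtain ⟨p, hp⟩ := hex 0 1 (by decide)
  have := eq_one_of_commutator_closed hcl ⟨0, 1, by decide, hp⟩
  rw [this] at hp
  have h2 := congrFun (hp (fun _ => 1)) 0
  rw [Subgroup.coe_one, Equiv.Perm.one_apply] at h2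
  revert h2
  decide

theorem witness_three : (![1, 2, 0] : Fin 3 → ZMod 3) ≠ 0 ∧
    (![1, 2, 0] : Fin 3 → ZMod 3) ∉ Finset.univ.image (fun i : Fin 3 => indVec 3 {i}) ∧
    (![1, 2, 0] : Fin 3 → ZMod 3) = indVec 3 {0} + (indVec 3 {1} + indVec 3 {1}) := by decide

theorem key_three : ∀ a b : Fin 3, indVec 3 {a} + (indVec 3 {b} + indVec 3 {b}) ∈
    ({![1, 2, 0], ![1, 1, 1]} : Finset (Fin 3 → ZMod 3)) → a = 0 ∧ b = 1 := by decide +kernel

theorem eq_two : ∀ a : Fin 3, a ≠ 0 → a ≠ 1 → a = 2 := by decide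

/-- A three-colouring of the nonzero vectors of `(Z/q)^m` preserved only by the identity of a
given solvable group of automorphisms. -/
theorem exists_colour_three [hq : Fact q.Prime] (hq3 : q = 2 ∨ q = 3) {S : Type*} [Group S]
    [Group.IsSolvable S] (σ : S →* Equiv.Perm (Fin m → ZMod q))
    (hadd : ∀ g x y, σ g (x + y) = σ g x + σ g y) :
    ∃ c : (Fin m → ZMod q) → Fin 3, ∀ g : S,
      (∀ x, x ≠ 0 → c (σ g x) = c x) → ∀ x, σ g x = x := by
  classical
  let e : Fin m → (Fin m → ZMod q) := fun i => indVec q {i}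
  have hne : ∀ T : Finset (Fin m), T.Nonempty → indVec q T ≠ 0 := by
    rintro T ⟨i, hi⟩ h
    simpa [indVec, hi] using congrFun h i
  have heinj : Function.Injective e := fun i j h => by simpa using indVec_injective h
  have done : ∀ g, (∀ i, σ g (e i) = e i) → ∀ x, σ g x = x := by
    intro g hg
    exact eq_of_fix_single (AddMonoidHom.mk' (σ g) (hadd g)) fun i => by
      simpa [e, indVec_singleton] using hg i
  have hsum : ∀ g (π : Fin m → Fin m), Function.Injective π → (∀ i, σ g (e i) = e (π i)) →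
      ∀ T : Finset (Fin m), σ g (indVec q T) = indVec q (T.image π) := by
    intro g π hπ h T
    rw [indVec_eq_sum, indVec_eq_sum, Finset.sum_image hπ.injOn]
    refine (map_sum (AddMonoidHom.mk' (σ g) (hadd g)) _ _).trans (Finset.sum_congr rfl fun i _ => ?_)
    simpa [e, indVec_singleton] using h i
  -- colourings whose first class is the basis
  have hperm : ∀ (B : Finset (Fin m → ZMod q)) g,
      (∀ x, x ≠ 0 → colourTwo (Finset.univ.image e) B (σ g x) =
        colourTwo (Finset.univ.image e) B x) →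
      ∃ π : Fin m → Fin m, Function.Injective π ∧ (∀ i, σ g (e i) = e (π i)) ∧
        ∀ x ∈ B, x ≠ 0 → x ∉ Finset.univ.image e → σ g x ∈ B := by
    intro B g hg
    have h : ∀ i, ∃ j, σ g (e i) = e j := fun i => by
      simpa [eq_comm] using (mem_of_colourTwo (hg (e i) (hne _ (by simp)))).1 (by simp)
    choose π hπ using h
    refine ⟨π, fun i j h => ?_, hπ, fun x hx h0 hxe => (mem_of_colourTwo (hg x h0)).2 hx hxe⟩
    exact heinj ((σ g).injective (by rw [hπ, hπ, h]))
  have hnotbasis : ∀ T : Finset (Fin m), T.card ≠ 1 → indVec q T ∉ Finset.univ.image e := by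
    intro T hT h
    obtain ⟨i, -, hi⟩ := Finset.mem_image.1 h
    rw [← indVec_injective hi] at hT
    simp at hT
  rcases Nat.lt_or_ge m 3 with hm | hm
  · refine ⟨fun x => if h : ∃ i, x = e i then ⟨(Classical.choose h).val, by omega⟩ else 2,
      fun g hg => done g fun i => ?_⟩
    have h1 : (if h : ∃ j, e i = e j then (⟨(Classical.choose h).val, by omega⟩ : Fin 3) else 2) =
        ⟨i.val, by omega⟩ := by
      rw [dif_pos ⟨i, rfl⟩]
      have := Classical.choose_spec (⟨i, rfl⟩ : ∃ j, e i = e j)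
      ext
      simp [← heinj this]
    have h2 := (hg (e i) (hne _ (by simp))).trans h1
    dsimp only at h2
    split at h2
    · next h =>
      have h3 := Classical.choose_spec h
      have h4 : (Classical.choose h).val = i.val := by
        have := congrArg Fin.val h2
        exact this
      rwa [Fin.ext h4] at h3
    · have := congrArg Fin.val h2
      simp at this
      omega
  rcases Nat.lt_or_ge m 4 with hm4 | hm4
  · obtain rfl : m = 3 := by omega
    rcases hq3 with rfl | rfl
    · exact exists_colour_three_two σ hadd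
    · refine ⟨colourTwo (Finset.univ.image e) {![1, 2, 0], ![1, 1, 1]}, fun g hg => done g ?_⟩
      obtain ⟨π, hπ, hπe, hB⟩ := hperm _ g hg
      have hlin : σ g ![1, 2, 0] = indVec 3 {π 0} + (indVec 3 {π 1} + indVec 3 {π 1}) := by
        rw [witness_three.2.2, hadd, hadd]
        exact congrArg₂ (· + ·) (hπe 0) (congrArg₂ (· + ·) (hπe 1) (hπe 1))
      have h1 := hB ![1, 2, 0] (by simp) witness_three.1 witness_three.2.1
      rw [hlin] at h1
      obtain ⟨h0, h1'⟩ := key_three _ _ h1
      have h2 : π 2 = 2 := eq_two (π 2) (fun h => absurd (hπ (h.trans h0.symm)) (by decide))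
        (fun h => absurd (hπ (h.trans h1'.symm)) (by decide))
      intro i
      rw [hπe]
      congr 1
      fin_cases i
      · exact h0
      · exact h1'
      · exact h2
  · let Bset : Finset (Fin m → ZMod q) := Finset.univ.filter fun x => ∃ T : Finset (Fin m),
      ((∃ k, 2 ≤ k ∧ k ≤ m ∧ T = Finset.univ.filter (fun i : Fin m => (i : ℕ) < k)) ∨
        T = Finset.univ.filter (fun i : Fin m => (i : ℕ) = 1 ∨ (i : ℕ) = 3)) ∧ x = indVec q T
    refine ⟨colourTwo (Finset.univ.image e) Bset, fun g hg => done g ?_⟩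
    obtain ⟨π, hπ, hπe, hB⟩ := hperm _ g hg
    have hid : ∀ i, π i = i := by
      refine perm_eq_id_of_four hm4 π hπ fun T hT => ?_
      have hc : 2 ≤ T.card := by
        refine (Finset.one_lt_card.2 ?_)
        rcases hT with ⟨k, hk2, hk, rfl⟩ | rfl
        · exact ⟨⟨0, by omega⟩, by simp; omega, ⟨1, by omega⟩, by simp; omega, by simp⟩
        · exact ⟨⟨1, by omega⟩, by simp, ⟨3, by omega⟩, by simp, by simp⟩
      have hin : indVec q T ∈ Bset := by simp only [Bset, Finset.mem_filter]; exact ⟨by simp, T, hT, rfl⟩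
      have := hB _ hin (hne T (Finset.card_pos.1 (by omega))) (hnotbasis T (by omega))
      simp only [Bset, Finset.mem_filter, hsum g π hπ hπe] at this
      obtain ⟨T', hT', heq⟩ := this.2
      rw [indVec_injective heq]
      exact hT'
    intro i
    rw [hπe, hid]

end Cfsg.Agent.Lib.BaseThree
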