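import Cfsg.Agent.Lib.BaseThree.Frame
import Cfsg.Agent.Lib.BaseThree.Small
import Cfsg.Agent.Lib.Components.GenFitting

/-!
# Regular triples for primitive solvable linear groups
-/

set_option autoImplicit false
set_option linter.style.haveILetI false
set_option linter.unusedSectionVars false

namespace Cfsg.Agent.Lib.BaseThree

open scoped commutatorElement Pointwise

variable {V : Type} [AddCommGroup V] [Finite V]

theorem end_sum_apply {ι : Type*} (s : Finset ι) (f : ι → AddMonoid.End V) (x : V) :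
    (∑ i ∈ s, f i) x = ∑ i ∈ s, f i x := by
  classical
  induction s using Finset.induction with
  | empty => simp
  | insert i s hi ih => rw [Finset.sum_insert hi, Finset.sum_insert hi, ← ih]; rfl

theorem exists_setup [Nontrivial V] (G0 : Subgroup (AddMonoid.End V)ˣ) (hG : Group.IsSolvable G0)
    (hirr : Irred G0) (hprim : Primitive G0) :
    ∃ G Z : Subgroup (AddMonoid.End V)ˣ, ∃ K : Subring (AddMonoid.End V),
      G0 ≤ G ∧ Group.IsSolvable G ∧ FieldSetup G Z K := by
  classical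
  haveI : Nontrivial (AddMonoid.End V) := ⟨⟨0, 1, fun h => by
    obtain ⟨v, hv⟩ := exists_ne (0 : V)
    exact hv (DFunLike.congr_fun h.symm v)⟩⟩
  obtain ⟨G, hle, hGmax⟩ :=
    Finite.exists_le_maximal (p := fun G : Subgroup (AddMonoid.End V)ˣ => Group.IsSolvable G) hG
  have hGs : Group.IsSolvable G := hGmax.prop
  obtain ⟨Z, -, hZmax⟩ := Finite.exists_le_maximal (p := fun Z : Subgroup (AddMonoid.End V)ˣ =>
      Z ≤ G ∧ (∀ g ∈ G, ∀ z ∈ Z, g * z * g⁻¹ ∈ Z) ∧ ∀ a ∈ Z, ∀ b ∈ Z, a * b = b * a)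
    (a := ⊥) ⟨bot_le, fun g _ z hz => by rw [Subgroup.mem_bot.1 hz]; simp,
      fun a ha b hb => by rw [Subgroup.mem_bot.1 ha, Subgroup.mem_bot.1 hb]⟩
  obtain ⟨hZG, hZn, hZc⟩ := hZmax.prop
  have hfield := fun r hr h0 => isUnit_of_mem_spanRing (G := G) (N := Z) (hirr.mono hle)
    (fun E hE => hprim E (hE.mono hle)) hZc hZn (r := r) hr h0
  -- the units of the field
  let U : Subgroup (AddMonoid.End V)ˣ :=
    { carrier := {u | (u : AddMonoid.End V) ∈ spanRing Z}
      one_mem' := (spanRing Z).one_mem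
      mul_mem' := fun ha hb => (spanRing Z).mul_mem ha hb
      inv_mem' := fun {u} hu => by
        obtain ⟨s, hs, h1, -⟩ := hfield _ hu u.ne_zero
        show (u⁻¹ : (AddMonoid.End V)ˣ).val ∈ spanRing Z
        rwa [Units.inv_eq_of_mul_eq_one_right h1] }
  have hUc : ∀ a ∈ U, ∀ b ∈ U, a * b = b * a := fun a ha b hb =>
    Units.ext (spanRing_commute hZc ha hb)
  have hUn : ∀ g ∈ G, ∀ u ∈ U, g * u * g⁻¹ ∈ U := fun g hg u hu =>
    conjEnd_mem_spanRing (hZn g hg) hu
  have hUs : Group.IsSolvable U :=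
    Group.isSolvable_of_comm fun a b => Subtype.ext (hUc a a.2 b b.2)
  have hnorm : G ≤ Subgroup.normalizer (U : Set (AddMonoid.End V)ˣ) := by
    intro g hg
    rw [Subgroup.mem_normalizer_iff]
    refine fun u => ⟨hUn g hg u, fun h => ?_⟩
    have h' := hUn g⁻¹ (G.inv_mem hg) _ h
    rwa [show g⁻¹ * (g * u * g⁻¹) * g⁻¹⁻¹ = u by group] at h'
  have hUG : U ≤ G :=
    le_sup_left.trans (hGmax.le_of_ge (Components.isSolvable_sup hnorm hUs hGs) le_sup_right)
  have hUZ : U = Z :=
    le_antisymm (hZmax.le_of_ge ⟨hUG, hUn, hUc⟩ fun z hz => mem_spanRing hz)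
      (fun z hz => mem_spanRing hz)
  refine ⟨G, Z, spanRing Z, hle, hGs, ⟨hZG, hZn, hZc, fun M hMG hZM hMn hMc =>
    le_antisymm (hZmax.le_of_ge ⟨hMG, hMn, hMc⟩ hZM) hZM, fun r => ⟨fun hr => ?_, ?_⟩⟩⟩
  · by_cases h0 : r = 0
    · exact Or.inl h0
    · obtain ⟨s, -, h1, h2⟩ := hfield r hr h0
      refine Or.inr ⟨⟨r, s, h1, h2⟩, ?_, rfl⟩
      rw [← hUZ]
      exact hr
  · rintro (rfl | ⟨z, hz, rfl⟩)
    · exact (spanRing Z).zero_mem
    · exact mem_spanRing hz

theorem exists_goodF [Nontrivial V] {G Z : Subgroup (AddMonoid.End V)ˣ}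
    {K : Subring (AddMonoid.End V)} (hGs : Group.IsSolvable G) (hS : FieldSetup G Z K) :
    ∃ F, GoodF G Z F ∧ ∀ g ∈ G, (∀ f ∈ F, g * f = f * g) → g ∈ Z := by
  classical
  obtain ⟨F, -, hFmax⟩ := Finite.exists_le_maximal (p := GoodF G Z) (a := Z)
    ⟨le_rfl, hS.le, hS.norm, hS.comm, fun x hx y hy => by
      rw [commutatorElement_eq_one_iff_mul_comm.2 (hS.comm x hx y hy)]
      exact Z.one_mem, fun f hf => Z.pow_mem hf _⟩
  have hF : GoodF G Z F := hFmax.prop
  refine ⟨F, hF, fun g hg hgF => ?_⟩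
  by_contra hgZ
  let C : Subgroup (AddMonoid.End V)ˣ :=
    { carrier := {c | c ∈ G ∧ ∀ f ∈ F, c * f = f * c}
      one_mem' := ⟨G.one_mem, fun f _ => by simp⟩
      mul_mem' := fun {a b} ha hb => ⟨G.mul_mem ha.1 hb.1, fun f hf =>
        (show Commute (a * b) f from Commute.mul_left (ha.2 f hf) (hb.2 f hf)).eq⟩
      inv_mem' := fun {a} ha => ⟨G.inv_mem ha.1, fun f hf =>
        (show Commute a f from ha.2 f hf).inv_left.eq⟩ }
  have hCn : ∀ g ∈ G, ∀ c ∈ C, g * c * g⁻¹ ∈ C := fun g hg c hc =>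
    ⟨G.mul_mem (G.mul_mem hg hc.1) (G.inv_mem hg), fun f hf => by
      have h := hc.2 _ (hF.norm g⁻¹ (G.inv_mem hg) f hf)
      calc g * c * g⁻¹ * f = g * (c * (g⁻¹ * f * g⁻¹⁻¹)) * g⁻¹ := by group
        _ = g * ((g⁻¹ * f * g⁻¹⁻¹) * c) * g⁻¹ := by rw [h]
        _ = f * (g * c * g⁻¹) := by group⟩
  have hZC : Z ≤ C := fun z hz => ⟨hS.le hz, fun f hf => (hF.cent f hf z hz).symm⟩
  -- a minimal normal subgroup above `Z` in the centraliser
  obtain ⟨D, -, hDmin⟩ := Finite.exists_le_maximal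
    (α := (Subgroup (AddMonoid.End V)ˣ)ᵒᵈ)
    (p := fun D => Z < OrderDual.ofDual D ∧ OrderDual.ofDual D ≤ C ∧
      ∀ g ∈ G, ∀ d ∈ OrderDual.ofDual D, g * d * g⁻¹ ∈ OrderDual.ofDual D)
    (a := OrderDual.toDual C)
    ⟨lt_of_le_of_ne hZC (fun h => hgZ (h ▸ (show g ∈ C from ⟨hg, hgF⟩))), le_rfl, hCn⟩
  obtain ⟨hZD, hDC, hDn⟩ := hDmin.prop
  generalize hDdef : OrderDual.ofDual D = D' at hZD hDC hDn
  have hmin : ∀ E : Subgroup (AddMonoid.End V)ˣ, Z ≤ E → E ≤ D' →
      (∀ g ∈ G, ∀ d ∈ E, g * d * g⁻¹ ∈ E) → E = Z ∨ E = D' := by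
    intro E hZE hED hEn
    by_cases h : Z = E
    · exact Or.inl h.symm
    · refine Or.inr (le_antisymm hED ?_)
      have := hDmin.le_of_ge (y := OrderDual.toDual E)
        ⟨lt_of_le_of_ne hZE h, hED.trans hDC, hEn⟩ (by
          show E ≤ OrderDual.ofDual D
          rw [hDdef]; exact hED)
      have : OrderDual.ofDual D ≤ E := this
      rwa [hDdef] at this
  have hzc : ∀ d ∈ D', ∀ z ∈ Z, d * z = z * d := fun d hd z hz => (hDC hd).2 z (hF.Z_le hz)
  -- commutators of `D'` lie in `Z`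
  let E : Subgroup (AddMonoid.End V)ˣ := ⁅D', D'⁆ ⊔ Z
  have hEn : ∀ g ∈ G, ∀ d ∈ E, g * d * g⁻¹ ∈ E := by
    intro g hg d hd
    have hle : E ≤ E.comap (MulAut.conj g).toMonoidHom := by
      refine sup_le (Subgroup.commutator_le.2 fun a ha b hb => ?_) fun z hz =>
        Subgroup.mem_sup_right (hS.norm g hg z hz)
      show g * ⁅a, b⁆ * g⁻¹ ∈ E
      rw [conjugate_commutatorElement]
      exact Subgroup.mem_sup_left (Subgroup.commutator_mem_commutator (hDn g hg a ha) (hDn g hg b hb))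
    exact hle hd
  have hED : E ≤ D' := sup_le (Subgroup.commutator_le.2 fun a ha b hb =>
    D'.mul_mem (D'.mul_mem (D'.mul_mem ha hb) (D'.inv_mem ha)) (D'.inv_mem hb)) hZD.le
  have hcommZ : ∀ a ∈ D', ∀ b ∈ D', ⁅a, b⁆ ∈ Z := by
    rcases hmin E le_sup_right hED hEn with h | h
    · exact fun a ha b hb => h ▸ Subgroup.mem_sup_left (Subgroup.commutator_mem_commutator ha hb)
    · intro a ha b hb
      -- `⁅D', D'⁆` would be perfect
      have hperf : ⁅D', D'⁆ ≤ ⁅⁅D', D'⁆, ⁅D', D'⁆⁆ := by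
        refine Subgroup.commutator_le.2 fun a ha b hb => ?_
        have hsplit : ∀ d ∈ D', ∃ c ∈ ⁅D', D'⁆, ∃ z ∈ Z, d = c * z := by
          intro d hd
          have hd' : d ∈ ((⁅D', D'⁆ : Subgroup (AddMonoid.End V)ˣ) : Set (AddMonoid.End V)ˣ) * (Z : Set (AddMonoid.End V)ˣ) := by
            rw [← Subgroup.coe_mul_of_right_le_normalizer_left _ Z ?_]
            · exact (h.symm ▸ hd : d ∈ E)
            · intro z hz
              rw [Subgroup.mem_normalizer_iff]
              intro c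
              have hcD : ∀ c, c ∈ ⁅D', D'⁆ → z * c * z⁻¹ = c := fun c hc => by
                rw [← hzc c (hED (Subgroup.mem_sup_left hc)) z hz, mul_inv_cancel_right]
              constructor
              · intro hc; rwa [hcD c hc]
              · intro hc
                have h1 := hcD _ hc
                have h2 : z * c * z⁻¹ = c := mul_left_cancel (a := z) (mul_right_cancel (b := z⁻¹) h1)
                rwa [h2] at hc
          obtain ⟨c, hc, z, hz, rfl⟩ := hd'
          exact ⟨c, hc, z, hz, rfl⟩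
        obtain ⟨c, hc, z, hz, rfl⟩ := hsplit a ha
        obtain ⟨c', hc', z', hz', rfl⟩ := hsplit b hb
        have hcD := hED (Subgroup.mem_sup_left hc)
        have hcD' := hED (Subgroup.mem_sup_left hc')
        have h1 : ⁅c * z, c' * z'⁆ = ⁅c, c'⁆ := by
          have e1 : Commute z c' := (hzc c' hcD' z hz).symm
          have e2 : Commute z' c := (hzc c hcD z' hz').symm
          have e3 : Commute z z' := hS.comm z hz z' hz'
          calc ⁅c * z, c' * z'⁆ = c * (z * c') * (z' * z⁻¹) * c⁻¹ * (z'⁻¹ * c'⁻¹) := by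
                simp only [commutatorElement_def, mul_inv_rev, mul_assoc]
            _ = c * (c' * z) * (z⁻¹ * z') * c⁻¹ * (z'⁻¹ * c'⁻¹) := by
                rw [e1.eq, (e3.inv_left.symm).eq]
            _ = c * c' * (z' * c⁻¹) * z'⁻¹ * c'⁻¹ := by group
            _ = c * c' * (c⁻¹ * z') * z'⁻¹ * c'⁻¹ := by rw [e2.inv_right.eq]
            _ = ⁅c, c'⁆ := by simp only [commutatorElement_def]; group
        rw [h1]
        exact Subgroup.commutator_mem_commutator hc hc'
      have hbot : ⁅D', D'⁆ = ⊥ := by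
        by_contra hne
        have hle : ⁅D', D'⁆ ≤ G := (le_sup_left.trans hED).trans fun d hd => (hDC hd).1
        haveI : Group.IsSolvable (⁅D', D'⁆ : Subgroup (AddMonoid.End V)ˣ) :=
          Group.isSolvable_of_isSolvable_injective (Subgroup.inclusion_injective hle)
        haveI : Nontrivial (⁅D', D'⁆ : Subgroup (AddMonoid.End V)ˣ) :=
          (Subgroup.nontrivial_iff_ne_bot _).2 hne
        have hlt := Group.IsSolvable.commutator_lt_top_of_nontrivial
          (G := (⁅D', D'⁆ : Subgroup (AddMonoid.End V)ˣ))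
        refine hlt.ne ?_
        apply Subgroup.map_injective (Subgroup.subtype_injective _)
        rw [commutator_def, Subgroup.map_commutator, ← MonoidHom.range_eq_map,
          Subgroup.range_subtype]
        exact le_antisymm (Subgroup.commutator_le.2 fun a ha b hb =>
          Subgroup.mul_mem _ (Subgroup.mul_mem _ (Subgroup.mul_mem _ ha hb) (inv_mem ha))
            (inv_mem hb)) hperf
      have h1 := Subgroup.commutator_mem_commutator ha hb
      rw [hbot, Subgroup.mem_bot] at h1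
      rw [h1]
      exact Z.one_mem
  -- `D'/Z` is elementary abelian
  have hexp : ∀ d ∈ D', d ^ sfExp V ∈ Z := by
    obtain ⟨x, hxD, hxZ⟩ := SetLike.exists_of_lt hZD
    obtain ⟨n, ⟨hn0, hn⟩, hnmin⟩ : ∃ n, (0 < n ∧ x ^ n ∈ Z) ∧ ∀ k < n, ¬ (0 < k ∧ x ^ k ∈ Z) := by
      have hex : ∃ n, 0 < n ∧ x ^ n ∈ Z :=
        ⟨orderOf x, orderOf_pos x, by rw [pow_orderOf_eq_one]; exact Z.one_mem⟩
      exact ⟨Nat.find hex, Nat.find_spec hex, fun k hk => Nat.find_min hex hk⟩
    have hn1 : n ≠ 1 := fun h => hxZ (by simpa [h] using hn)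
    have hq := Nat.minFac_prime hn1
    obtain ⟨l, hl⟩ := Nat.minFac_dvd n
    have hqdvd : n.minFac ∣ sfExp V := by
      refine hq.dvd_primorial_iff.2 ((Nat.minFac_le hn0).trans ?_)
      have hle : n ≤ orderOf x := Nat.le_of_not_lt fun hlt =>
        hnmin _ hlt ⟨orderOf_pos x, by rw [pow_orderOf_eq_one]; exact Z.one_mem⟩
      exact hle.trans (Nat.le_of_dvd Nat.card_pos (orderOf_dvd_natCard x))
    have hpow : ∀ a ∈ D', ∀ b ∈ D', ∀ k : ℕ, ∃ z ∈ Z, (a * b) ^ k = a ^ k * b ^ k * z := by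
      intro a ha b hb k
      induction k with
      | zero => exact ⟨1, Z.one_mem, by simp⟩
      | succ k ih =>
        obtain ⟨z, hz, e⟩ := ih
        refine ⟨⁅b ^ k, a⁆ * z, Z.mul_mem (hcommZ _ (D'.pow_mem hb k) _ ha) hz, ?_⟩
        have hw : ⁅b ^ k, a⁆ ∈ Z := hcommZ _ (D'.pow_mem hb k) _ ha
        have h1 : b ^ k * a = ⁅b ^ k, a⁆ * (a * b ^ k) := by
          simp only [commutatorElement_def]; group
        calc (a * b) ^ (k + 1) = a ^ k * b ^ k * z * (a * b) := by rw [pow_succ, e]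
          _ = a ^ k * b ^ k * (a * b) * z := by
              rw [mul_assoc _ z, ← hzc _ (D'.mul_mem ha hb) z hz, ← mul_assoc]
          _ = a ^ k * (b ^ k * a) * b * z := by simp only [mul_assoc]
          _ = a ^ k * (a * b ^ k * b * ⁅b ^ k, a⁆) * z := by
              rw [h1, hzc _ (D'.mul_mem (D'.mul_mem ha (D'.pow_mem hb k)) hb) _ hw]
              simp only [mul_assoc]
          _ = a ^ (k + 1) * b ^ (k + 1) * (⁅b ^ k, a⁆ * z) := by
              rw [pow_succ a k, pow_succ b k]; simp only [mul_assoc]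
    let Ω : Subgroup (AddMonoid.End V)ˣ :=
      { carrier := {d | d ∈ D' ∧ d ^ n.minFac ∈ Z}
        one_mem' := ⟨D'.one_mem, by rw [one_pow]; exact Z.one_mem⟩
        mul_mem' := fun {a b} ha hb => ⟨D'.mul_mem ha.1 hb.1, by
          obtain ⟨z, hz, e⟩ := hpow a ha.1 b hb.1 n.minFac
          rw [e]
          exact Z.mul_mem (Z.mul_mem ha.2 hb.2) hz⟩
        inv_mem' := fun {a} ha => ⟨D'.inv_mem ha.1, by rw [inv_pow]; exact Z.inv_mem ha.2⟩ }
    have hx' : x ^ l ∈ Ω := ⟨D'.pow_mem hxD l, by rw [← pow_mul, mul_comm, ← hl]; exact hn⟩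
    have hl0 : 0 < l := by
      rcases Nat.eq_zero_or_pos l with rfl | h0
      · rw [Nat.mul_zero] at hl; omega
      · exact h0
    have hlt : l < n := by
      rw [hl]
      exact (Nat.lt_mul_iff_one_lt_left hl0).2 hq.one_lt
    rcases hmin Ω (fun z hz => ⟨hZD.le hz, Z.pow_mem hz _⟩) (fun d hd => hd.1)
      (fun g hg d hd => ⟨hDn g hg d hd.1, by rw [conj_pow]; exact hS.norm g hg _ hd.2⟩) with h | h
    · exact absurd (h ▸ hx' : x ^ l ∈ Z) fun h1 => hnmin l hlt ⟨hl0, h1⟩
    · intro d hd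
      obtain ⟨c, hc⟩ := hqdvd
      rw [hc, pow_mul]
      exact Z.pow_mem (h.symm ▸ hd : d ∈ Ω).2 c
  -- `F ⊔ D'` has the same properties
  have hprod : ∀ g, g ∈ F ⊔ D' → ∃ f ∈ F, ∃ d ∈ D', g = f * d := by
    intro g hg
    have h : g ∈ (F : Set (AddMonoid.End V)ˣ) * (D' : Set (AddMonoid.End V)ˣ) := by
      rw [← Subgroup.coe_mul_of_right_le_normalizer_left F D' (fun d hd => by
        rw [Subgroup.mem_normalizer_iff]
        intro f
        have hd' := (hDC hd).2
        constructor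
        · intro hf; rw [hd' f hf, mul_inv_cancel_right]; exact hf
        · intro hf
          have h1 := hd' _ hf
          have h2 : d * f * d⁻¹ = f := by
            have h3 : d * (d * f * d⁻¹) = d * f := by rw [h1]; group
            exact mul_left_cancel h3
          rwa [h2] at hf)]
      exact hg
    obtain ⟨f, hf, d, hd, rfl⟩ := h
    exact ⟨f, hf, d, hd, rfl⟩
  have hgood : GoodF G Z (F ⊔ D') :=
    { Z_le := hF.Z_le.trans le_sup_left
      le := sup_le hF.le fun d hd => (hDC hd).1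
      norm := fun g hg x hx => by
        obtain ⟨f, hf, d, hd, rfl⟩ := hprod x hx
        rw [show g * (f * d) * g⁻¹ = (g * f * g⁻¹) * (g * d * g⁻¹) by group]
        exact (F ⊔ D').mul_mem (Subgroup.mem_sup_left (hF.norm g hg f hf))
          (Subgroup.mem_sup_right (hDn g hg d hd))
      cent := fun x hx z hz => by
        obtain ⟨f, hf, d, hd, rfl⟩ := hprod x hx
        exact ((show Commute f z from hF.cent f hf z hz).mul_left (hzc d hd z hz)).eq
      comm_mem := fun x hx y hy => by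
        obtain ⟨f, hf, d, hd, rfl⟩ := hprod x hx
        obtain ⟨f', hf', d', hd', rfl⟩ := hprod y hy
        have e1 : Commute d f' := (hDC hd).2 f' hf'
        have e2 : Commute d' f := (hDC hd').2 f hf
        have e3 : Commute f (d * d' * d⁻¹ * d'⁻¹) :=
          hF.cent f hf _ (hcommZ d hd d' hd')
        have h : ⁅f * d, f' * d'⁆ = f * f' * (d * d' * d⁻¹ * d'⁻¹) * f⁻¹ * f'⁻¹ := by
          calc ⁅f * d, f' * d'⁆ = f * (d * f') * (d' * d⁻¹) * f⁻¹ * (d'⁻¹ * f'⁻¹) := by
                simp only [commutatorElement_def, mul_inv_rev, mul_assoc]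
            _ = f * (f' * d) * (d' * d⁻¹) * (f⁻¹ * d'⁻¹) * f'⁻¹ := by
                rw [e1.eq]; simp only [mul_assoc]
            _ = f * (f' * d) * (d' * d⁻¹) * (d'⁻¹ * f⁻¹) * f'⁻¹ := by rw [e2.inv_inv.eq]
            _ = f * f' * (d * d' * d⁻¹ * d'⁻¹) * f⁻¹ * f'⁻¹ := by simp only [mul_assoc]
        have hz := hcommZ d hd d' hd'
        rw [h, mul_assoc (f * f'), e3.inv_left.eq.symm, ← mul_assoc,
          mul_assoc _ (d * d' * d⁻¹ * d'⁻¹), ← hF.cent f'⁻¹ (F.inv_mem hf') (d * d' * d⁻¹ * d'⁻¹)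
            (by simpa [commutatorElement_def] using hz), ← mul_assoc]
        exact Z.mul_mem (by simpa [commutatorElement_def] using hF.comm_mem f hf f' hf')
          (by simpa [commutatorElement_def] using hz)
      pow_mem := fun x hx => by
        obtain ⟨f, hf, d, hd, rfl⟩ := hprod x hx
        rw [Commute.mul_pow (show Commute f d from ((hDC hd).2 f hf).symm)]
        exact Z.mul_mem (hF.pow_mem f hf) (hexp d hd) }
  have hDF : D' ≤ F := le_sup_right.trans (hFmax.le_of_ge hgood le_sup_left)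
  have := hS.max D' (fun d hd => (hDC hd).1) hZD.le hDn fun a ha b hb => (hDC ha).2 b (hDF hb)
  exact hZD.ne this.symm

/-- The regular triple, given a colouring of the abelian complement. -/
theorem exists_triple_of_frame [Nontrivial V] {G Z : Subgroup (AddMonoid.End V)ˣ}
    {K : Subring (AddMonoid.End V)} (hS : FieldSetup G Z K) {F A B R : Subgroup (AddMonoid.End V)ˣ}
    (hF : GoodF G Z F) (hC : ∀ g ∈ G, (∀ f ∈ F, g * f = f * g) → g ∈ Z)
    (hfr : IsFrame Z F A B R)
    (hcol : Nat.card B < Nat.card V → ∃ f : B → K, ∀ g ∈ G,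
      ∀ hg : ∀ b ∈ B, g * b * g⁻¹ ∈ B,
        (∀ b : B, b ≠ 1 → f ⟨g * b * g⁻¹, hg b b.2⟩ = f b) →
        ∀ b ∈ B, g * b * g⁻¹ = b) :
    HasTriple G V := by
  classical
  letI := hS.isField.toField
  haveI := Fintype.ofFinite A
  haveI := Fintype.ofFinite B
  have haF : ∀ a ∈ A, a ∈ F := fun a ha => hfr.A_le ha
  have hbF : ∀ b ∈ B, b ∈ F := fun b hb => hfr.B_le hb
  have hrF : ∀ r ∈ R, r ∈ F := fun r hr => hfr.R_le hr
  -- scalars commute with `F`
  have hkc : ∀ k ∈ K, ∀ f ∈ F, ∀ x : V, f • k x = k (f • x) := by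
    intro k hk f hf x
    rcases (hS.mem_iff k).1 hk with rfl | ⟨z, hz, rfl⟩
    · exact smul_zero f
    · show f • z • x = z • f • x
      rw [← mul_smul, hF.cent f hf z hz, mul_smul]
  -- natural numbers which are nonzero in `K` are cancellable
  have hcancel : ∀ n : ℕ, ((n : ℕ) : K) ≠ 0 → ∀ x y : V, n • x = n • y → x = y := by
    intro n hn x y h
    rcases (hS.mem_iff ((n : K) : AddMonoid.End V)).1 (n : K).2 with h0 | ⟨z, -, hz⟩
    · exact absurd (Subtype.ext h0) hn
    · refine MulAction.injective z ?_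
      show (z : AddMonoid.End V) x = (z : AddMonoid.End V) y
      rw [hz]
      simpa using h
  have hcA : ((Nat.card A : ℕ) : K) ≠ 0 := hF.natCard_ne_zero hS hC haF
  have hcB : ((Nat.card B : ℕ) : K) ≠ 0 := hF.natCard_ne_zero hS hC hbF
  -- weight spaces and projections
  let InW : (AddMonoid.End V)ˣ → V → Prop := fun b x => ∀ a ∈ A, a • x = ⁅a, b⁆ • x
  let P : (AddMonoid.End V)ˣ → V → V := fun b x =>
    ∑ a : A, ⁅(a : (AddMonoid.End V)ˣ), b⁆⁻¹ • (a : (AddMonoid.End V)ˣ) • x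
  have hcomm1 : ∀ a : (AddMonoid.End V)ˣ, ⁅a, (1 : (AddMonoid.End V)ˣ)⁆ = 1 :=
    fun a => commutatorElement_one_right a
  have hinW : ∀ b ∈ B, ∀ x, InW 1 x → InW b (b • x) := by
    intro b hb x hx a ha
    rw [← mul_smul, show a * b = ⁅a, b⁆ * (b * a) by simp only [commutatorElement_def]; group,
      mul_smul, mul_smul, hx a ha, hcomm1, one_smul]
  have hquot : ∀ a ∈ A, ∀ b ∈ B, ∀ c ∈ B, ⁅a, b⁆ = ⁅a, b * c⁻¹⁆ * ⁅a, c⁆ := fun a ha b hb c hc => by
    rw [← hF.comm_mul_right (haF a ha) (F.mul_mem (hbF b hb) (F.inv_mem (hbF c hc))) (hbF c hc),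
      inv_mul_cancel_right]
  have huniq : ∀ b ∈ B, ∀ c ∈ B, ∀ x : V, x ≠ 0 → InW b x → InW c x → b = c := by
    intro b hb c hc x hx hxb hxc
    refine eq_of_div_eq_one ((div_eq_mul_inv b c).trans (hfr.B_nd _ (B.mul_mem hb (B.inv_mem hc))
      fun a ha => ?_))
    have h1 := hS.eq_one_of_fix (z := ⁅a, b * c⁻¹⁆)
      (hF.comm_mem a (haF a ha) _ (F.mul_mem (hbF b hb) (F.inv_mem (hbF c hc))))
      (v := ⁅a, c⁆ • x) (fun h => hx ((smul_eq_zero_iff_eq _).1 h)) (by
        rw [← mul_smul, ← hquot a ha b hb c hc, ← hxb a ha, hxc a ha])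
    exact h1
  have hPsame : ∀ b ∈ B, ∀ x, InW b x → P b x = Nat.card A • x := by
    intro b hb x hx
    show ∑ a : A, ⁅(a : (AddMonoid.End V)ˣ), b⁆⁻¹ • (a : (AddMonoid.End V)ˣ) • x = _
    rw [Finset.sum_congr rfl fun (a : A) _ => by rw [hx a a.2, inv_smul_smul], Finset.sum_const,
      Finset.card_univ, Nat.card_eq_fintype_card]
  have hsumA : ∀ b ∈ B, b ≠ 1 → ∀ x : V, ∑ a : A, ⁅(a : (AddMonoid.End V)ˣ), b⁆ • x = 0 := by
    intro b hb hb1 x
    let χ : A →* K :=
      { toFun := fun a => hS.toK ⟨⁅(a : (AddMonoid.End V)ˣ), b⁆, hF.comm_mem _ (haF _ a.2) b (hbF b hb)⟩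
        map_one' := by
          rw [← map_one hS.toK]
          exact congrArg _ (Subtype.ext (commutatorElement_one_left b))
        map_mul' := fun a c => by
          rw [← map_mul]
          exact congrArg _ (Subtype.ext (hF.comm_mul_left (haF _ a.2) (haF _ c.2) (hbF b hb))) }
    have h0 : ∑ a, χ a = 0 := sum_hom_units_eq_zero χ fun h => hb1 (hfr.B_nd b hb fun a ha =>
      congrArg Subtype.val (hS.toK_injective
        ((DFunLike.congr_fun h ⟨a, ha⟩).trans (map_one hS.toK).symm)))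
    have h1 := congrArg (fun k : K => (k : AddMonoid.End V) x) h0
    simp only [AddSubmonoidClass.coe_finsetSum, end_sum_apply] at h1
    exact h1
  have hPdiff : ∀ b ∈ B, ∀ c ∈ B, b ≠ c → ∀ x, InW c x → P b x = 0 := by
    intro b hb c hc hne x hx
    show ∑ a : A, ⁅(a : (AddMonoid.End V)ˣ), b⁆⁻¹ • (a : (AddMonoid.End V)ˣ) • x = 0
    refine (Finset.sum_congr rfl fun (a : A) _ => ?_).trans
      (hsumA (c * b⁻¹) (B.mul_mem hc (B.inv_mem hb)) (fun h => hne (mul_inv_eq_one.1 h).symm) x)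
    rw [hx a a.2, ← mul_smul, hquot a a.2 c hc b hb]
    congr 1
    rw [(hF.cent _ (hF.Z_le (hF.comm_mem _ (haF _ a.2) _ (F.mul_mem (hbF c hc) (F.inv_mem (hbF b hb)))))
      _ (hF.comm_mem _ (haF _ a.2) b (hbF b hb))), inv_mul_cancel_left]
  have hPconj : ∀ b ∈ B, ∀ x : V, P b x = b • P 1 (b⁻¹ • x) := by
    intro b hb x
    show _ = b • ∑ a : A, ⁅(a : (AddMonoid.End V)ˣ), (1 : (AddMonoid.End V)ˣ)⁆⁻¹ • _
    rw [Finset.smul_sum]
    refine Finset.sum_congr rfl fun a _ => ?_
    rw [hcomm1, inv_one, one_smul, ← mul_smul, ← mul_smul, ← mul_smul]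
    congr 1
    simp only [commutatorElement_def]
    group
  have hP1W : ∀ x, InW 1 (P 1 x) := by
    intro x a ha
    rw [hcomm1, one_smul]
    show a • ∑ c : A, _ = ∑ c : A, _
    rw [Finset.smul_sum]
    refine Fintype.sum_equiv (Equiv.mulLeft (⟨a, ha⟩ : A)) _ _ fun c => ?_
    simp only [hcomm1, inv_one, one_smul, Equiv.coe_mulLeft, Subgroup.coe_mul, mul_smul]
  -- a nonzero vector fixed by `A`
  obtain ⟨x0, hx0, hx0W⟩ : ∃ x, x ≠ 0 ∧ InW 1 x := by
    by_contra hne
    push Not at hne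
    have hP0 : ∀ x, P 1 x = 0 := fun x => by
      by_contra h
      exact hne _ h (hP1W x)
    obtain ⟨x, hx⟩ := exists_ne (0 : V)
    refine hx (hcancel _ hcB x 0 ?_)
    have h1 : ∑ b : B, P b x = 0 :=
      Finset.sum_eq_zero fun b _ => by rw [hPconj b b.2, hP0, smul_zero]
    have h2 : ∑ b : B, P b x = Nat.card B • x := by
      show ∑ b : B, ∑ a : A, _ = _
      rw [Finset.sum_comm, Finset.sum_eq_single (1 : A)]
      · simp [commutatorElement_one_left, Nat.card_eq_fintype_card]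
      · intro a _ ha
        let χ : B →* K :=
          { toFun := fun b => hS.toK ⟨⁅(a : (AddMonoid.End V)ˣ), (b : (AddMonoid.End V)ˣ)⁆,
              hF.comm_mem _ (haF _ a.2) _ (hbF _ b.2)⟩
            map_one' := by
              rw [← map_one hS.toK]
              exact congrArg _ (Subtype.ext (hcomm1 _))
            map_mul' := fun b c => by
              rw [← map_mul]
              exact congrArg _ (Subtype.ext (hF.comm_mul_right (haF _ a.2) (hbF _ b.2) (hbF _ c.2))) }
        have h0 : ∑ b, χ b = 0 := sum_hom_units_eq_zero χ fun h => ha (Subtype.ext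
          (hfr.A_nd a a.2 fun b hb => congrArg Subtype.val (hS.toK_injective
            ((DFunLike.congr_fun h ⟨b, hb⟩).trans (map_one hS.toK).symm))))
        refine Eq.trans ?_ ((congrArg (fun k : K => (k : AddMonoid.End V)
          ((a : (AddMonoid.End V)ˣ) • x)) h0).trans rfl)
        simp only [AddSubmonoidClass.coe_finsetSum, end_sum_apply]
        refine Fintype.sum_equiv (Equiv.inv B) _ _ fun b => ?_
        show _ = ⁅(a : (AddMonoid.End V)ˣ), ((b⁻¹ : B) : (AddMonoid.End V)ˣ)⁆ •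
          ((a : (AddMonoid.End V)ˣ) • x)
        congr 1
        rw [inv_eq_iff_mul_eq_one, Subgroup.coe_inv, ← hF.comm_mul_right (haF _ a.2) (hbF _ b.2)
          (F.inv_mem (hbF _ b.2)), mul_inv_cancel, hcomm1]
      · intro h; exact absurd (Finset.mem_univ _) h
    rw [smul_zero, ← h2, h1]
  -- `R` preserves the fixed space of `A`
  have hRW : ∀ r ∈ R, ∀ x, InW 1 x → InW 1 (r • x) := by
    intro r hr x hx a ha
    rw [← mul_smul, commutatorElement_eq_one_iff_mul_comm.1 (hfr.AR a ha r hr), mul_smul, hx a ha,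
      hcomm1, one_smul, one_smul]
  -- the base vectors
  obtain ⟨v, u0, hv, hvW, hu0W, hspan⟩ : ∃ v u0 : V, v ≠ 0 ∧ InW 1 v ∧ InW 1 u0 ∧
      ∀ r ∈ R, ∃ k ∈ K, ∃ l ∈ K, r • v = k v + l u0 := by
    have hshape : R = Z ∨ (R ≠ Z ∧ ∃ α ∈ R, ∃ β ∈ R, α ^ 2 = -1 ∧ β ^ 2 = -1 ∧ α * β = -(β * α) ∧
        ∀ r ∈ R, ∃ z ∈ Z, ∃ i j : ℕ, r = z * α ^ i * β ^ j) :=
      (em (R = Z)).imp_right fun h => ⟨h, hfr.shape.resolve_left h⟩
    rcases hshape with hR | ⟨hRne, α, hα, β, hβ, hα2, hβ2, hαβ, hgen⟩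
    · refine ⟨x0, x0, hx0, hx0W, hx0W, fun r hr => ⟨r, hS.coe_mem (hR ▸ hr), 0, K.zero_mem, ?_⟩⟩
      show (r : AddMonoid.End V) x0 = (r : AddMonoid.End V) x0 + (0 : AddMonoid.End V) x0
      simp
    · have hnZ : ∀ z ∈ Z, z ^ 2 ≠ (-1 : (AddMonoid.End V)ˣ) := by
        intro z hz e
        by_cases hαZ : α ∈ Z
        · by_cases hβZ : β ∈ Z
          · refine hRne (le_antisymm (fun r hr => ?_) hfr.Z_le)
            obtain ⟨z, hz, i, j, rfl⟩ := hgen r hr
            exact Z.mul_mem (Z.mul_mem hz (Z.pow_mem hαZ i)) (Z.pow_mem hβZ j)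
          · exact (hfr.aniso β hβ hβZ).2 z hz (by rw [hβ2, e])
        · exact (hfr.aniso α hα hαZ).2 z hz (by rw [hα2, e])
      obtain ⟨p, hp⟩ := CharP.exists K
      haveI : Fact p.Prime := ⟨CharP.char_is_prime K p⟩
      haveI : NeZero p := ⟨(Fact.out : p.Prime).ne_zero⟩
      obtain ⟨c, d, hcd⟩ := CharP.sq_add_sq K p (-1)
      generalize hkc1 : (c : K) = k1 at hcd
      generalize hkd1 : (d : K) = k2 at hcd
      have hd0 : k2 ≠ 0 := by
        rintro rfl
        rcases (hS.mem_iff k1.1).1 k1.2 with h0 | ⟨z, hz, hz'⟩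
        · rw [show k1 = 0 from Subtype.ext h0] at hcd
          simp at hcd
        · refine hnZ z hz (Units.ext ?_)
          have := congrArg Subtype.val hcd
          simp at this
          rw [Units.val_pow_eq_pow_val, hz', this]
          rfl
      let T : V → V := fun x => k1.1 (α • x) + k2.1 (β • x)
      have hkk : ∀ (k l : K) (x : V), k.1 (l.1 x) = l.1 (k.1 x) := fun k l x =>
        DFunLike.congr_fun (hS.mul_comm_mem k.2 l.2) x
      have hα' : ∀ (k : K) (x : V), α • k.1 x = k.1 (α • x) := fun k => hkc _ k.2 α (hrF α hα)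
      have hβ' : ∀ (k : K) (x : V), β • k.1 x = k.1 (β • x) := fun k => hkc _ k.2 β (hrF β hβ)
      have hαα : ∀ x : V, α • α • x = -x := fun x => by
        rw [← mul_smul, ← pow_two, hα2]; rfl
      have hββ : ∀ x : V, β • β • x = -x := fun x => by
        rw [← mul_smul, ← pow_two, hβ2]; rfl
      have hba : ∀ x : V, α • β • x = -(β • α • x) := fun x => by
        rw [← mul_smul, ← mul_smul, hαβ]; rfl
      have hTadd : ∀ x y, T (x + y) = T x + T y := fun x y => by
        simp only [T, smul_add, map_add]; abel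
      have hT2 : ∀ x, T (T x) = x := by
        intro x
        have hsq : k1.1 (k1.1 x) + k2.1 (k2.1 x) = -x := by
          have := congrArg (fun k : K => k.1 x) hcd
          simp [pow_two] at this
          exact this
        have e1 : T (T x) = -(k1.1 (k1.1 x) + k2.1 (k2.1 x)) := by
          show k1.1 (α • (k1.1 (α • x) + k2.1 (β • x))) + k2.1 (β • (k1.1 (α • x) + k2.1 (β • x))) = _
          simp only [smul_add, hα', hβ', map_add, hαα, hββ, hba, map_neg, hkk k2 k1]
          abel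
        rw [e1, hsq, neg_neg]
      have hTγ : ∀ x, T (α • β • x) = -(α • β • T x) := by
        intro x
        show k1.1 (α • α • β • x) + k2.1 (β • α • β • x) =
          -(α • β • (k1.1 (α • x) + k2.1 (β • x)))
        have h1 : β • α • β • x = α • x := by
          rw [hba, smul_neg, hββ, neg_neg]
        have h2 : α • β • α • x = β • x := by
          rw [hba, hαα, smul_neg, neg_neg]
        simp only [smul_add, hα', hβ', hαα, hββ, h1, h2, map_neg, smul_neg]
        abel
      have hKW : ∀ (k : K) (x : V), InW 1 x → InW 1 (k.1 x) := fun k x hx a ha => by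
        rw [hcomm1, one_smul, hkc _ k.2 a (haF a ha), hx a ha, hcomm1, one_smul]
      have hWadd : ∀ x y : V, InW 1 x → InW 1 y → InW 1 (x + y) := fun x y hx hy a ha => by
        rw [smul_add, hx a ha, hy a ha, smul_add]
      have hTW : ∀ x, InW 1 x → InW 1 (T x) := fun x hx =>
        hWadd _ _ (hKW k1 _ (hRW α hα x hx)) (hKW k2 _ (hRW β hβ x hx))
      obtain ⟨v, hv, hvW, hTv⟩ : ∃ v, v ≠ 0 ∧ InW 1 v ∧ T v = v := by
        by_cases h : x0 + T x0 = 0
        · refine ⟨α • β • x0, fun h' => hx0 ?_, hRW α hα _ (hRW β hβ _ hx0W), ?_⟩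
          · rwa [smul_eq_zero_iff_eq, smul_eq_zero_iff_eq] at h'
          · rw [hTγ, eq_neg_of_add_eq_zero_right h, smul_neg, smul_neg, neg_neg]
        · exact ⟨_, h, hWadd _ _ hx0W (hTW _ hx0W), by rw [hTadd, hT2, add_comm]⟩
      refine ⟨v, α • v, hv, hvW, hRW α hα v hvW, ?_⟩
      let S : V → Prop := fun x => ∃ k : K, ∃ l : K, x = k.1 v + l.1 (α • v)
      have hSv : S v := ⟨1, 0, by simp⟩
      have hSa : S (α • v) := ⟨0, 1, by simp⟩
      have hSk : ∀ (k : K) x, S x → S (k.1 x) := by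
        rintro k x ⟨a, b, rfl⟩
        exact ⟨k * a, k * b, by rw [map_add]; rfl⟩
      have hSadd : ∀ x y, S x → S y → S (x + y) := by
        rintro x y ⟨a, b, rfl⟩ ⟨c, d, rfl⟩
        exact ⟨a + c, b + d, add_add_add_comm _ _ _ _⟩
      have hSneg : ∀ x, S x → S (-x) := by
        rintro x ⟨a, b, rfl⟩
        exact ⟨-a, -b, neg_add _ _⟩
      have hSα : ∀ x, S x → S (α • x) := by
        rintro x ⟨a, b, rfl⟩
        rw [smul_add, hα', hα', hαα]
        exact hSadd _ _ (hSk a _ hSa) (hSk b _ (hSneg _ hSv))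
      have hSbv : S (β • v) := by
        have h1 : k2.1 (β • v) = v + -(k1.1 (α • v)) := by
          have hTv' : k1.1 (α • v) + k2.1 (β • v) = v := hTv
          rw [← sub_eq_add_neg, eq_sub_iff_add_eq']
          exact hTv'
        have h2 : β • v = (k2⁻¹ : K).1 (v + -(k1.1 (α • v))) := by
          rw [← h1]
          have h3 := congrArg (fun k : K => k.1 (β • v)) (inv_mul_cancel₀ hd0)
          exact h3.symm
        rw [h2]
        exact hSk _ _ (hSadd _ _ hSv (hSneg _ (hSk _ _ hSa)))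
      have hSβ : ∀ x, S x → S (β • x) := by
        rintro x ⟨a, b, rfl⟩
        rw [smul_add, hβ', hβ']
        refine hSadd _ _ (hSk a _ hSbv) (hSk b _ ?_)
        rw [← neg_neg (β • α • v), ← hba]
        exact hSneg _ (hSα _ hSbv)
      intro r hr
      obtain ⟨z, hz, i, j, rfl⟩ := hgen r hr
      have hSβj : ∀ j : ℕ, S (β ^ j • v) := by
        intro j
        induction j with
        | zero => simpa using hSv
        | succ j ih => rw [pow_succ', mul_smul]; exact hSβ _ ih
      have hSαi : ∀ i : ℕ, S (α ^ i • β ^ j • v) := by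
        intro i
        induction i with
        | zero => simpa using hSβj j
        | succ i ih => rw [pow_succ', mul_smul]; exact hSα _ ih
      obtain ⟨k, l, hkl⟩ := hSk ⟨_, hS.coe_mem hz⟩ _ (hSαi i)
      refine ⟨k.1, k.2, l.1, l.2, ?_⟩
      rw [mul_smul, mul_smul]
      exact hkl
  -- no element of `R` outside `Z` fixes `v`
  have hRv : ∀ r ∈ R, ∀ z ∈ Z, r • v = z • v → r ∈ Z := by
    intro r hr z hz h
    by_contra hrZ
    obtain ⟨h2, hsq⟩ := hfr.aniso r hr hrZ
    refine hsq z hz ?_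
    have h1 := hS.eq_one_of_fix (Z.mul_mem (Z.inv_mem (Z.pow_mem hz 2)) h2) hv (by
      rw [mul_smul, inv_smul_eq_iff, pow_two, mul_smul, h, ← mul_smul, hF.cent r (hrF r hr) z hz,
        mul_smul, h, ← mul_smul, ← pow_two])
    exact (inv_mul_eq_one.1 h1)
  -- the orbit of `v` under `B`
  have hbv : ∀ b ∈ B, InW b (b • v) := fun b hb => hinW b hb v hvW
  have hbne : ∀ b : (AddMonoid.End V)ˣ, b • v ≠ 0 := fun b h => hv ((smul_eq_zero_iff_eq b).1 h)
  have hBV : Nat.card B < Nat.card V := by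
    cases nonempty_fintype V
    rw [Nat.card_eq_fintype_card, Nat.card_eq_fintype_card]
    refine Fintype.card_lt_of_injective_not_surjective
      (fun b : B => (b : (AddMonoid.End V)ˣ) • v) (fun b c h => Subtype.ext ?_) fun hs => ?_
    · have h' : (b : (AddMonoid.End V)ˣ) • v = (c : (AddMonoid.End V)ˣ) • v := h
      exact huniq b b.2 c c.2 _ (hbne b) (hbv b b.2) (h' ▸ hbv c c.2)
    · obtain ⟨b, hb⟩ := hs 0
      exact hbne b hb
  obtain ⟨f, hf⟩ := hcol hBV
  haveI := hS.isCyclic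
  obtain ⟨lam, hlam⟩ := IsCyclic.exists_generator (α := Z)
  -- the vectors
  let w : V := ∑ b : B, (b : (AddMonoid.End V)ˣ) • v
  let u : V := (∑ b ∈ Finset.univ.erase (1 : B), (f b).1 ((b : (AddMonoid.End V)ˣ) • v)) + u0
  have hlw : ∀ b : B, InW b ((lam : (AddMonoid.End V)ˣ) • (b : (AddMonoid.End V)ˣ) • v) := by
    intro b a ha
    rw [← mul_smul a, hF.cent a (haF a ha) _ lam.2, mul_smul, hbv b b.2 a ha,
      ← mul_smul (lam : (AddMonoid.End V)ˣ) ⁅a, _⁆,
      hS.comm _ lam.2 _ (hF.comm_mem a (haF a ha) _ (hbF _ b.2)), mul_smul]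
  have hfb : ∀ (k : K) (b : B), InW b (k.1 ((b : (AddMonoid.End V)ˣ) • v)) := by
    intro k b a ha
    rw [hkc _ k.2 a (haF a ha), hbv b b.2 a ha]
    rcases (hS.mem_iff k.1).1 k.2 with h0 | ⟨z, hz, hz'⟩
    · rw [h0]; simp
    · rw [← hz']
      simp only [← units_smul_def]
      rw [← mul_smul, ← mul_smul _ z, hS.comm z hz _ (hF.comm_mem a (haF a ha) _ (hbF _ b.2))]
  refine ⟨![v, (lam : (AddMonoid.End V)ˣ) • w, u], fun h hfix => ?_⟩
  obtain ⟨g, hgG⟩ := h
  have g1 : g • v = v := hfix 0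
  have g2 : g • (lam : (AddMonoid.End V)ˣ) • w = (lam : (AddMonoid.End V)ˣ) • w := hfix 1
  have g3 : g • u = u := hfix 2
  -- `A` is the stabiliser of `v` in `F`
  have hstabv : ∀ x ∈ F, x • v = v → x ∈ A := by
    intro x hx hxv
    obtain ⟨a, ha, b, hb, r, hr, rfl⟩ := hfr.decomp x hx
    have hrv : InW 1 (r • v) := hRW r hr v hvW
    have h1 : InW b (b • r • v) := hinW b hb _ hrv
    have h2 : a • b • r • v = v := by rw [← mul_smul, ← mul_smul, hxv]
    rw [h1 a ha] at h2
    have hb1 : b = 1 := by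
      refine huniq b hb 1 B.one_mem _ (fun h => hv ?_) h1 ?_
      · rw [← h2, h, smul_zero]
      · intro a' ha'
        have h3 : b • r • v = ⁅a, b⁆⁻¹ • v := by
          rw [eq_inv_smul_iff, h2]
        rw [h3, hcomm1, one_smul, ← mul_smul, hF.cent a' (haF a' ha') _
          (Z.inv_mem (hF.comm_mem a (haF a ha) b (hbF b hb))), mul_smul, hvW a' ha', hcomm1, one_smul]
    subst hb1
    rw [hcomm1, one_smul, one_smul] at h2
    have hrZ := hRv r hr 1 Z.one_mem (by rw [h2, one_smul])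
    rw [hS.eq_one_of_fix hrZ hv h2, mul_one, mul_one]
    exact ha
  have hgA : ∀ y ∈ G, y • v = v → ∀ a ∈ A, y * a * y⁻¹ ∈ A := fun y hy hyv a ha =>
    hstabv _ (hF.norm y hy a (haF a ha)) (by
      rw [mul_smul, mul_smul, show y⁻¹ • v = v by rw [inv_smul_eq_iff, hyv], hvW a ha, hcomm1,
        one_smul, hyv])
  have hginv : g⁻¹ • v = v := by rw [inv_smul_eq_iff, g1]
  -- `g` commutes with the averages over `A`
  have hP1g : ∀ x, g • P 1 x = P 1 (g • x) := by
    intro x
    show g • ∑ a : A, _ = ∑ a : A, _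
    rw [Finset.smul_sum]
    let e : A ≃ A :=
      { toFun := fun a => ⟨g * a * g⁻¹, hgA g hgG g1 a a.2⟩
        invFun := fun a => ⟨g⁻¹ * a * g⁻¹⁻¹, hgA g⁻¹ (G.inv_mem hgG) hginv a a.2⟩
        left_inv := fun a => Subtype.ext (by dsimp only; group)
        right_inv := fun a => Subtype.ext (by dsimp only; group) }
    refine Fintype.sum_equiv e _ _ fun a => ?_
    simp only [hcomm1, inv_one, one_smul]
    show g • (a : (AddMonoid.End V)ˣ) • x = (g * a * g⁻¹) • g • x
    rw [← mul_smul (g * a * g⁻¹), inv_mul_cancel_right, mul_smul]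
  -- `g` is linear
  have hglam : g * lam * g⁻¹ = (lam : (AddMonoid.End V)ˣ) := by
    have hP : P 1 ((lam : (AddMonoid.End V)ˣ) • w) = Nat.card A • ((lam : (AddMonoid.End V)ˣ) • v) := by
      have hsum : (lam : (AddMonoid.End V)ˣ) • w =
          ∑ b : B, (lam : (AddMonoid.End V)ˣ) • (b : (AddMonoid.End V)ˣ) • v := Finset.smul_sum
      rw [hsum]
      show ∑ a : A, _ = _
      simp only [Finset.smul_sum]
      rw [Finset.sum_comm, Finset.sum_eq_single (1 : B)]
      · have := hPsame 1 B.one_mem _ (hlw 1)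
        simpa [P] using this
      · intro b _ hb
        exact hPdiff 1 B.one_mem b b.2 (fun h => hb (Subtype.ext h.symm)) _ (hlw b)
      · intro h; exact absurd (Finset.mem_univ _) h
    have h1 := hP1g ((lam : (AddMonoid.End V)ˣ) • w)
    rw [g2, hP] at h1
    have h2 : g • (lam : (AddMonoid.End V)ˣ) • v = (lam : (AddMonoid.End V)ˣ) • v :=
      hcancel _ hcA _ _ (by rw [← smul_comm g, h1])
    have h3 := hS.norm g hgG _ lam.2
    have h4 := hS.eq_one_of_fix (Z.mul_mem (Z.inv_mem lam.2) h3) hv (by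
      rw [mul_smul, mul_smul, mul_smul, hginv, h2, inv_smul_smul])
    exact (inv_mul_eq_one.1 h4).symm
  have hgZ : ∀ z ∈ Z, g * z = z * g := by
    intro z hz
    obtain ⟨n, hn⟩ := Subgroup.mem_zpowers_iff.1 (hlam ⟨z, hz⟩)
    have hc : Commute g (lam : (AddMonoid.End V)ˣ) := mul_inv_eq_iff_eq_mul.1 hglam
    have := (hc.zpow_right n).eq
    rwa [← SubgroupClass.coe_zpow, hn] at this
  have gw : g • w = w := by
    rw [← mul_smul, hgZ _ lam.2, mul_smul] at g2
    exact smul_left_cancel _ g2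
  -- `B` is the stabiliser of `w` in `F`
  have hbw : ∀ b ∈ B, b • w = w := by
    intro b hb
    show b • ∑ c : B, _ = ∑ c : B, _
    rw [Finset.smul_sum]
    refine Fintype.sum_equiv (Equiv.mulLeft (⟨b, hb⟩ : B)) _ _ fun c => ?_
    simp only [Equiv.coe_mulLeft, Subgroup.coe_mul, mul_smul]
  have hPw : ∀ c : B, P c w = Nat.card A • ((c : (AddMonoid.End V)ˣ) • v) := by
    intro c
    show ∑ a : A, _ = _
    simp only [w, Finset.smul_sum]
    rw [Finset.sum_comm, Finset.sum_eq_single c]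
    · exact hPsame c c.2 _ (hbv c c.2)
    · intro b _ hb
      exact hPdiff c c.2 b b.2 (fun h => hb (Subtype.ext h.symm)) _ (hbv b b.2)
    · intro h; exact absurd (Finset.mem_univ _) h
  have hstabw : ∀ x ∈ F, x • w = w → x ∈ B := by
    intro x hx hxw
    obtain ⟨a, ha, b, hb, r, hr, rfl⟩ := hfr.decomp x hx
    have hbr : b * r = r * b := commutatorElement_eq_one_iff_mul_comm.1 (hfr.BR b hb r hr)
    have har : a * r = r * a := commutatorElement_eq_one_iff_mul_comm.1 (hfr.AR a ha r hr)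
    have harw : r • a • w = w := by
      rw [← mul_smul, ← har]
      rwa [mul_assoc, hbr, ← mul_assoc, mul_smul, hbw b hb] at hxw
    -- compare components
    have key : ∀ c : B, ⁅a, (c : (AddMonoid.End V)ˣ)⁆ • r • v = v := by
      intro c
      have h1 : P c (r • a • w) =
          Nat.card A • (⁅a, (c : (AddMonoid.End V)ˣ)⁆ • r • (c : (AddMonoid.End V)ˣ) • v) := by
        show ∑ a' : A, _ = _
        simp only [w, Finset.smul_sum]
        rw [Finset.sum_comm, Finset.sum_eq_single c]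
        · have hin : InW c (⁅a, (c : (AddMonoid.End V)ˣ)⁆ • r • (c : (AddMonoid.End V)ˣ) • v) := by
            intro a' ha'
            rw [← mul_smul, hF.cent a' (haF a' ha') _ (hF.comm_mem a (haF a ha) _ (hbF _ c.2)),
              mul_smul, ← mul_smul a', commutatorElement_eq_one_iff_mul_comm.1 (hfr.AR a' ha' r hr),
              mul_smul, hbv c c.2 a' ha', ← mul_smul r, hF.cent r (hrF r hr) _
                (hF.comm_mem a' (haF a' ha') _ (hbF _ c.2)), mul_smul, ← mul_smul, ← mul_smul _ ⁅a, _⁆,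
              hS.comm _ (hF.comm_mem a (haF a ha) _ (hbF _ c.2)) _
                (hF.comm_mem a' (haF a' ha') _ (hbF _ c.2))]
          have h3 : r • a • (c : (AddMonoid.End V)ˣ) • v =
              ⁅a, (c : (AddMonoid.End V)ˣ)⁆ • r • (c : (AddMonoid.End V)ˣ) • v := by
            rw [hbv c c.2 a ha, ← mul_smul r, hF.cent r (hrF r hr) _
              (hF.comm_mem a (haF a ha) _ (hbF _ c.2)), mul_smul]
          rw [h3]
          exact hPsame c c.2 _ hin
        · intro b' _ hb'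
          refine hPdiff c c.2 b' b'.2 (fun h => hb' (Subtype.ext h.symm)) _ ?_
          intro a' ha'
          rw [← mul_smul a', commutatorElement_eq_one_iff_mul_comm.1 (hfr.AR a' ha' r hr),
            mul_smul, ← mul_smul a', commutatorElement_eq_one_iff_mul_comm.1 (hfr.A_comm a' ha' a ha),
            mul_smul, hbv b' b'.2 a' ha', ← mul_smul a, hF.cent a (haF a ha) _
              (hF.comm_mem a' (haF a' ha') _ (hbF _ b'.2)), mul_smul, ← mul_smul r, hF.cent r (hrF r hr) _
              (hF.comm_mem a' (haF a' ha') _ (hbF _ b'.2)), mul_smul]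
        · intro h; exact absurd (Finset.mem_univ _) h
      rw [harw, hPw] at h1
      have h4 := (hcancel _ hcA _ _ h1).symm
      rw [← mul_smul r, ← commutatorElement_eq_one_iff_mul_comm.1 (hfr.BR _ c.2 r hr),
        mul_smul, ← mul_smul ⁅a, _⁆, (hF.cent _ (hbF _ c.2) _
          (hF.comm_mem a (haF a ha) _ (hbF _ c.2))).symm, mul_smul] at h4
      exact smul_left_cancel _ h4
    have hrv : r • v = v := by
      have := key 1
      rwa [OneMemClass.coe_one, hcomm1, one_smul] at this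
    have hr1 : r = 1 := hS.eq_one_of_fix (hRv r hr 1 Z.one_mem (by rw [hrv, one_smul])) hv hrv
    have ha1 : a = 1 := hfr.A_nd a ha fun c hc =>
      hS.eq_one_of_fix (hF.comm_mem a (haF a ha) c (hbF c hc)) hv (by
        have := key ⟨c, hc⟩
        rwa [hrv] at this)
    rw [hr1, ha1, mul_one, one_mul]
    exact hb
  have hgB : ∀ b ∈ B, g * b * g⁻¹ ∈ B := fun b hb =>
    hstabw _ (hF.norm g hgG b (hbF b hb)) (by
      rw [mul_smul, mul_smul, show g⁻¹ • w = w by rw [inv_smul_eq_iff, gw], hbw b hb, gw])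
  have hgz' : ∀ z ∈ Z, g * z * g⁻¹ = z := fun z hz => by rw [hgZ z hz, mul_inv_cancel_right]
  have hgK : ∀ (k : K) (x : V), g • k.1 x = k.1 (g • x) := by
    intro k x
    rcases (hS.mem_iff k.1).1 k.2 with h0 | ⟨z, hz, hz'⟩
    · rw [h0]; simp
    · rw [← hz']
      show g • z • x = z • g • x
      rw [← mul_smul, hgZ z hz, mul_smul]
  -- `g` maps weight spaces
  have hgW : ∀ b ∈ B, ∀ x, InW b x → InW (g * b * g⁻¹) (g • x) := by
    intro b hb x hx a ha
    have ha' := hgA g⁻¹ (G.inv_mem hgG) hginv a ha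
    have h1 := hx _ ha'
    have h2 : g * ⁅g⁻¹ * a * g⁻¹⁻¹, b⁆ * g⁻¹ = ⁅a, g * b * g⁻¹⁆ := by
      rw [conjugate_commutatorElement]
      congr 1
      group
    rw [← h2, ← mul_smul (g * _ * g⁻¹), inv_mul_cancel_right, mul_smul, ← h1, ← mul_smul, ← mul_smul]
    congr 1
    group
  have hW1g : ∀ x, InW 1 x → InW 1 (g • x) := fun x hx => by
    have h := hgW 1 B.one_mem x hx
    rwa [mul_one, mul_inv_cancel] at h
  -- components of `u`
  let U : B → V := fun b => if b = 1 then u0 else (f b).1 ((b : (AddMonoid.End V)ˣ) • v)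
  have hU : ∀ b : B, InW b (U b) := fun b => by
    by_cases hb : b = 1
    · subst hb; simpa [U] using hu0W
    · simp only [U, if_neg hb]; exact hfb _ b
  have hu : u = ∑ b, U b := by
    rw [← Finset.sum_erase_add _ _ (Finset.mem_univ (1 : B))]
    show _ + u0 = _
    congr 1
    · exact Finset.sum_congr rfl fun b hb => (if_neg (Finset.ne_of_mem_erase hb)).symm
    · exact (if_pos rfl).symm
  let M : B ≃ B := Equiv.ofBijective (fun b => ⟨g * b * g⁻¹, hgB b b.2⟩)
    (Finite.injective_iff_bijective.1 fun b c h => Subtype.ext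
      (mul_left_cancel (mul_right_cancel (congrArg Subtype.val h))))
  have hUM : ∀ b : B, g • U b = U (M b) := by
    intro b
    have h1 : g • u = ∑ b, g • U b := by rw [hu, Finset.smul_sum]
    have h2 : ∑ b, g • U b = ∑ b, U (M b) := by
      rw [← h1, g3, hu, Equiv.sum_comp M U]
    have h3 : P (M b) (∑ b, g • U b) = P (M b) (∑ b, U (M b)) := by rw [h2]
    have hPsum : ∀ (y : B → V), (∀ c, InW (M c) (y c)) →
        P (M b) (∑ c, y c) = Nat.card A • y b := by
      intro y hy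
      show ∑ a : A, _ = _
      simp only [Finset.smul_sum]
      rw [Finset.sum_comm, Finset.sum_eq_single b]
      · exact hPsame _ (M b).2 _ (hy b)
      · intro c _ hc
        exact hPdiff _ (M b).2 _ (M c).2 (fun h => hc (M.injective (Subtype.ext h.symm))) _ (hy c)
      · intro h; exact absurd (Finset.mem_univ _) h
    rw [hPsum _ (fun c => hgW c c.2 _ (hU c)), hPsum _ (fun c => hU (M c))] at h3
    exact hcancel _ hcA _ _ h3
  -- `g` centralises `B`
  have hgBc : ∀ b ∈ B, g * b * g⁻¹ = b := by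
    refine hf g hgG hgB fun b hb => ?_
    have hMb : M b ≠ 1 := fun h => hb (M.injective (h.trans (Subtype.ext (by simp [M]))))
    have h := hUM b
    simp only [U, if_neg hb, if_neg hMb] at h
    rw [hgK] at h
    have h5 : g • (b : (AddMonoid.End V)ˣ) • v = ((M b : B) : (AddMonoid.End V)ˣ) • v := by
      show _ = (g * b * g⁻¹) • v
      rw [mul_smul, mul_smul, hginv]
    rw [h5] at h
    by_contra hne
    have h6 : ((f b - f (M b) : K) : AddMonoid.End V) (((M b : B) : (AddMonoid.End V)ˣ) • v) = 0 := by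
      show (f b).1 _ - (f (M b)).1 _ = 0
      rw [h, sub_self]
    rcases (hS.mem_iff _).1 (f b - f (M b)).2 with h0 | ⟨z, -, hz⟩
    · exact hne (sub_eq_zero.1 (Subtype.ext h0)).symm
    · rw [← hz] at h6
      exact hbne _ ((smul_eq_zero_iff_eq z).1 h6)
  -- `g` centralises `A`
  have hgAc : ∀ a ∈ A, g * a * g⁻¹ = a := by
    intro a ha
    have ha' := hgA g hgG g1 a ha
    refine eq_of_div_eq_one ((div_eq_mul_inv _ a).trans (hfr.A_nd _ (A.mul_mem ha' (A.inv_mem ha))
      fun b hb => ?_))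
    have h1 : ⁅g * a * g⁻¹, b⁆ = ⁅a, b⁆ := by
      conv_lhs => rw [← hgBc b hb, ← conjugate_commutatorElement]
      exact hgz' _ (hF.comm_mem a (haF a ha) b (hbF b hb))
    have h2 := hF.comm_mul_left (F.mul_mem (haF _ ha') (F.inv_mem (haF a ha))) (haF a ha) (hbF b hb)
    rw [inv_mul_cancel_right, h1] at h2
    exact right_eq_mul.1 h2
  -- `g` centralises `R`
  have hgu0 : g • u0 = u0 := by
    have h := hUM 1
    have hM1 : M 1 = 1 := Subtype.ext (by simp [M])
    simpa [U, hM1] using h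
  have hgRc : ∀ r ∈ R, g * r * g⁻¹ = r := by
    intro r hr
    have hxF := hF.norm g hgG r (hrF r hr)
    obtain ⟨a, ha, b, hb, r', hr', hx⟩ := hfr.decomp _ hxF
    have hr'F := hrF r' hr'
    have hcomm : ∀ y ∈ F, g * y * g⁻¹ = y → ⁅y, r⁆ = 1 → ⁅y, a * b * r'⁆ = 1 := by
      intro y hy hgy hyr
      rw [← hx]
      conv_lhs => arg 1; rw [← hgy]
      rw [← conjugate_commutatorElement, hyr, mul_one, mul_inv_cancel]
    have hb1 : b = 1 := hfr.B_nd b hb fun a' ha' => by
      have h := hcomm a' (haF a' ha') (hgAc a' ha') (hfr.AR a' ha' r hr)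
      rwa [hF.comm_mul_right (haF a' ha') (F.mul_mem (haF a ha) (hbF b hb)) hr'F,
        hF.comm_mul_right (haF a' ha') (haF a ha) (hbF b hb), hfr.A_comm a' ha' a ha,
        hfr.AR a' ha' r' hr', one_mul, mul_one] at h
    have ha1 : a = 1 := hfr.A_nd a ha fun b' hb' => by
      have h := hcomm b' (hbF b' hb') (hgBc b' hb') (hfr.BR b' hb' r hr)
      rw [hF.comm_mul_right (hbF b' hb') (F.mul_mem (haF a ha) (hbF b hb)) hr'F,
        hF.comm_mul_right (hbF b' hb') (haF a ha) (hbF b hb), hfr.B_comm b' hb' b hb,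
        hfr.BR b' hb' r' hr', mul_one, mul_one] at h
      rw [← commutatorElement_inv, h, inv_one]
    rw [ha1, hb1, one_mul, one_mul] at hx
    rw [hx]
    -- `r'` and `r` agree on `v`
    obtain ⟨k, hk, l, hl, hrv⟩ := hspan r hr
    have h1 : r' • v = r • v := by
      rw [← hx, mul_smul, mul_smul, hginv, hrv, smul_add, hgK ⟨k, hk⟩, hgK ⟨l, hl⟩, g1, hgu0]
    have hmem : r⁻¹ * r' ∈ R := R.mul_mem (R.inv_mem hr) hr'
    have hfixv : (r⁻¹ * r') • v = v := by rw [mul_smul, h1, inv_smul_smul]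
    have := hS.eq_one_of_fix (hRv _ hmem 1 Z.one_mem (by rw [hfixv, one_smul])) hv hfixv
    exact (inv_mul_eq_one.1 this).symm
  -- conclusion
  have hgF : ∀ x ∈ F, g * x = x * g := by
    intro x hx
    obtain ⟨a, ha, b, hb, r, hr, rfl⟩ := hfr.decomp x hx
    exact ((Commute.mul_right (mul_inv_eq_iff_eq_mul.1 (hgAc a ha))
      (mul_inv_eq_iff_eq_mul.1 (hgBc b hb))).mul_right (mul_inv_eq_iff_eq_mul.1 (hgRc r hr))).eq
  intro x
  show g • x = x
  rw [hS.eq_one_of_fix (hC g hgG hgF) hv g1, one_smul]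

end Cfsg.Agent.Lib.BaseThree
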